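import Cfsg.Agent.H883.Bridge
set_option linter.all false

-- part: H885/RootT
section
/-!
Calculus of the Siegel transformations contained in a subgroup `H` of the isometry group of a quadratic
form `Q`: `SM H Q x w` says that `siegel Q x w` makes sense and lies in `H`; `T H Q x` is the subspace of the
vectors `w` such that all `siegel Q x (c • w)` lie in `H`; `Full H Q x` says that all `siegel Q x w` lie in `H`.
Two non-orthogonal full singular vectors generate `E Q`.
-/

set_option autoImplicit false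

namespace Cfsg.Agent.H885.RootT

open QuadraticMap Cfsg.Agent.LieClassical.OrthCore Cfsg.Agent.LieClassical.OrthTrans
  Cfsg.Agent.LieClassical.OrthFinite Cfsg.Agent.LieClassical.OrthSimple

variable {F V : Type*} [Field F] [AddCommGroup V] [Module F V]

/-- `siegel Q x w` makes sense (`x` singular, `w ⊥ x`) and lies in `H`. -/
def SM (H : Subgroup (V ≃ₗ[F] V)) (Q : QuadraticForm F V) (x w : V) : Prop :=
  ∃ (hx : Q x = 0) (hw : polar Q x w = 0), siegel Q x w hx hw ∈ H

variable {Q : QuadraticForm F V} {H : Subgroup (V ≃ₗ[F] V)}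

theorem SM.sing {x w : V} (h : SM H Q x w) : Q x = 0 := h.1

theorem SM.perp {x w : V} (h : SM H Q x w) : polar Q x w = 0 := h.2.1

theorem SM.mem {x w : V} (h : SM H Q x w) (hx : Q x = 0) (hw : polar Q x w = 0) :
    siegel Q x w hx hw ∈ H := h.2.2

theorem SM.mono {H' : Subgroup (V ≃ₗ[F] V)} (hH : H ≤ H') {x w : V} (h : SM H Q x w) :
    SM H' Q x w := ⟨h.1, h.2.1, hH h.2.2⟩

theorem SM_E {x w : V} (hx : Q x = 0) (hw : polar Q x w = 0) : SM (E Q) Q x w :=
  ⟨hx, hw, siegel_mem_E hx hw⟩

theorem SM.zero {x : V} (hx : Q x = 0) : SM H Q x 0 := by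
  refine ⟨hx, polar_zero_right _ _, ?_⟩
  have : siegel Q x 0 hx (polar_zero_right _ _) = 1 := by
    ext v
    rw [siegel_apply]
    simp
  rw [this]
  exact H.one_mem

theorem SM.self {x : V} (hx : Q x = 0) (c : F) : SM H Q x (c • x) := by
  have h0 : polar Q x (c • x) = 0 := by
    rw [polar_smul_right, polar_self_of_sing hx, smul_zero]
  refine ⟨hx, h0, ?_⟩
  have : siegel Q x (c • x) hx h0 = 1 := by
    ext v
    rw [siegel_apply, QuadraticMap.map_smul, hx, polar_smul_left]
    show _ = v
    simp only [smul_eq_mul]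
    module
  rw [this]
  exact H.one_mem

theorem SM.add {x w w' : V} (h : SM H Q x w) (h' : SM H Q x w') : SM H Q x (w + w') := by
  obtain ⟨hx, hw, hm⟩ := h
  obtain ⟨_, hw', hm'⟩ := h'
  have h0 : polar Q x (w + w') = 0 := by rw [polar_add_right, hw, hw', add_zero]
  exact ⟨hx, h0, siegel_add_mem hx hw hw' h0 hm hm'⟩

theorem SM.neg {x w : V} (h : SM H Q x w) : SM H Q x (-w) := by
  obtain ⟨hx, hw, hm⟩ := h
  have h0 : polar Q x (-w) = 0 := by rw [polar_neg_right, hw, neg_zero]
  refine ⟨hx, h0, ?_⟩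
  rw [← siegel_inv hx hw h0]
  exact H.inv_mem hm

theorem SM.sub {x w w' : V} (h : SM H Q x w) (h' : SM H Q x w') : SM H Q x (w - w') := by
  rw [sub_eq_add_neg]
  exact h.add h'.neg

theorem SM.conj {g : V ≃ₗ[F] V} (hg : g ∈ H) (hO : g ∈ O Q) {x w : V} (h : SM H Q x w) :
    SM H Q (g x) (g w) := by
  obtain ⟨hx, hw, hm⟩ := h
  have hx' : Q (g x) = 0 := by rw [mem_O.1 hO]; exact hx
  have hw' : polar Q (g x) (g w) = 0 := by rw [polar_map hO]; exact hw
  refine ⟨hx', hw', ?_⟩
  rw [← siegel_conj hO hx hw hx' hw']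
  exact H.mul_mem (H.mul_mem hg hm) (H.inv_mem hg)

/-- For orthogonal singular vectors `siegel x w = siegel w (-x)`. -/
theorem siegel_swap {x w : V} (hx : Q x = 0) (hw : polar Q x w = 0) (hw0 : Q w = 0)
    (hx' : polar Q w (-x) = 0) : siegel Q x w hx hw = siegel Q w (-x) hw0 hx' := by
  ext v
  rw [siegel_apply, siegel_apply, QuadraticMap.map_neg, polar_neg_left, hw0, hx]
  module

theorem SM.symm {x w : V} (h : SM H Q x w) (hw0 : Q w = 0) : SM H Q w (-x) := by
  obtain ⟨hx, hw, hm⟩ := h
  have h0 : polar Q w (-x) = 0 := by rw [polar_neg_right, polar_comm, hw, neg_zero]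
  refine ⟨hw0, h0, ?_⟩
  rw [← siegel_swap hx hw hw0 h0]
  exact hm

theorem SM.smul_left {x w : V} {c : F} (h : SM H Q x (c • w)) (hw : polar Q x w = 0) :
    SM H Q (c • x) w := by
  obtain ⟨hx, hcw, hm⟩ := h
  have h0 : Q (c • x) = 0 := by rw [QuadraticMap.map_smul, hx, smul_zero]
  have h1 : polar Q (c • x) w = 0 := by rw [polar_smul_left, hw, smul_zero]
  refine ⟨h0, h1, ?_⟩
  rw [siegel_smul_left hx h0 h1 hcw]
  exact hm

/-- The subspace of the `w` with `siegel Q x (c • w) ∈ H` for all scalars `c`. -/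
def T (H : Subgroup (V ≃ₗ[F] V)) (Q : QuadraticForm F V) (x : V) (hx : Q x = 0) :
    Submodule F V where
  carrier := {w | ∀ c : F, SM H Q x (c • w)}
  add_mem' {a b} ha hb := fun c => by rw [smul_add]; exact (ha c).add (hb c)
  zero_mem' := fun c => by rw [smul_zero]; exact SM.zero hx
  smul_mem' a w hw := fun c => by rw [smul_smul]; exact hw (c * a)

theorem mem_T {x : V} {hx : Q x = 0} {w : V} : w ∈ T H Q x hx ↔ ∀ c : F, SM H Q x (c • w) :=
  Iff.rfl

theorem self_mem_T {x : V} (hx : Q x = 0) : x ∈ T H Q x hx := fun c => SM.self hx c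

theorem SM_of_mem_T {x : V} {hx : Q x = 0} {w : V} (hw : w ∈ T H Q x hx) : SM H Q x w := by
  have := hw 1
  rwa [one_smul] at this

theorem perp_of_mem_T {x : V} {hx : Q x = 0} {w : V} (hw : w ∈ T H Q x hx) : polar Q x w = 0 :=
  (SM_of_mem_T hw).perp

theorem T_conj {g : V ≃ₗ[F] V} (hg : g ∈ H) (hO : g ∈ O Q) {x w : V} {hx : Q x = 0}
    (hw : w ∈ T H Q x hx) (hx' : Q (g x) = 0) : g w ∈ T H Q (g x) hx' := by
  intro c
  rw [← map_smul]
  exact (hw c).conj hg hO

theorem T_mono {H' : Subgroup (V ≃ₗ[F] V)} (hH : H ≤ H') {x : V} {hx : Q x = 0} :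
    T H Q x hx ≤ T H' Q x hx := fun _ hw c => (hw c).mono hH

theorem T_symm {x w : V} {hx : Q x = 0} (h : w ∈ T H Q x hx) (hw : Q w = 0) :
    x ∈ T H Q w hw := by
  intro c
  have h1 : Q (c • w) = 0 := by rw [QuadraticMap.map_smul, hw, smul_zero]
  have h2 := ((h c).symm h1).neg
  rw [neg_neg] at h2
  -- `siegel (c w) x = siegel w (c x)`
  obtain ⟨_, h3, hm⟩ := h2
  have h4 : polar Q w (c • x) = 0 := by
    rw [polar_smul_right, ← polar_smul_left, h3]
  refine ⟨hw, h4, ?_⟩
  rw [← siegel_smul_left hw h1 h3 h4]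
  exact hm

/-- All Siegel transformations at the singular vector `x` lie in `H`. -/
def Full (H : Subgroup (V ≃ₗ[F] V)) (Q : QuadraticForm F V) (x : V) : Prop :=
  Q x = 0 ∧ ∀ w, polar Q x w = 0 → SM H Q x w

theorem Full.conj {g : V ≃ₗ[F] V} (hg : g ∈ H) (hO : g ∈ O Q) {x : V} (h : Full H Q x) :
    Full H Q (g x) := by
  refine ⟨by rw [mem_O.1 hO]; exact h.1, fun w hw => ?_⟩
  obtain ⟨w, rfl⟩ := g.surjective w
  rw [polar_map hO] at hw
  exact (h.2 w hw).conj hg hO

theorem Full.smul {x : V} (h : Full H Q x) (c : F) : Full H Q (c • x) := by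
  refine ⟨by rw [QuadraticMap.map_smul, h.1, smul_zero], fun w hw => ?_⟩
  by_cases hc : c = 0
  · subst hc
    have h0 : SM H Q x ((0 : F) • w) := by rw [zero_smul]; exact SM.zero h.1
    obtain ⟨hx, hcw, hm⟩ := h0
    have h1 : Q ((0 : F) • x) = 0 := by rw [QuadraticMap.map_smul, hx, smul_zero]
    refine ⟨h1, hw, ?_⟩
    rw [siegel_smul_left hx h1 hw hcw]
    exact hm
  · have h1 : polar Q x w = 0 := by
      rw [polar_smul_left, smul_eq_mul] at hw
      rcases mul_eq_zero.1 hw with h | h
      · exact absurd h hc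
      · exact h
    exact (h.2 (c • w) (by rw [polar_smul_right, h1, smul_zero])).smul_left h1

theorem full_of_T_eq {x : V} {hx : Q x = 0} (h : ∀ w, polar Q x w = 0 → w ∈ T H Q x hx) :
    Full H Q x := ⟨hx, fun w hw => SM_of_mem_T (h w hw)⟩

theorem siegel_partner_apply {x y y' : V} (h : Hyp Q x y) (h' : Hyp Q x y')
    (hw : polar Q x (y' - y) = 0) : siegel Q x (y' - y) h.left hw y = y' := by
  have hQ' : Q (y' - y) = - polar Q y' y := by
    rw [sub_eq_add_neg, Q_add, QuadraticMap.map_neg, polar_neg_right, h.right, h'.right]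
    ring
  rw [siegel_apply, h.pair, hQ', polar_sub_left, h.polar_right]
  module

/-- If `c` is full, `a` is full and opposite to `c`, then every singular vector opposite to `c` is
full. -/
theorem Full.opp (hO : H ≤ O Q) {a c d : V} (ha : Full H Q a) (hc : Full H Q c)
    (hca : polar Q c a ≠ 0) (hd : Q d = 0) (hcd : polar Q c d ≠ 0) : Full H Q d := by
  have h1 : Hyp Q c ((polar Q c a)⁻¹ • a) :=
    ⟨hc.1, by rw [QuadraticMap.map_smul, ha.1, smul_zero],
      by rw [polar_smul_right, smul_eq_mul, inv_mul_cancel₀ hca]⟩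
  have h2 : Hyp Q c ((polar Q c d)⁻¹ • d) :=
    ⟨hc.1, by rw [QuadraticMap.map_smul, hd, smul_zero],
      by rw [polar_smul_right, smul_eq_mul, inv_mul_cancel₀ hcd]⟩
  have hw : polar Q c ((polar Q c d)⁻¹ • d - (polar Q c a)⁻¹ • a) = 0 := by
    rw [polar_sub_right, h1.pair, h2.pair, sub_self]
  have hm := (hc.2 _ hw).mem h1.left hw
  have h3 := siegel_partner_apply h1 h2 hw
  have h4 := (ha.smul (polar Q c a)⁻¹).conj hm (hO hm)
  rw [h3] at h4
  have h5 := h4.smul (polar Q c d)
  rwa [smul_smul, mul_inv_cancel₀ hcd, one_smul] at h5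

/-- **Two non-orthogonal full singular vectors generate `E Q`.** -/
theorem E_le_of_full (hG : Good Q) (hO : H ≤ O Q) {a b : V} (ha : Full H Q a) (hb : Full H Q b)
    (hab : polar Q a b ≠ 0) : E Q ≤ H := by
  have ha0 : a ≠ 0 := by
    rintro rfl
    exact hab (polar_zero_left _ _)
  have hba : polar Q b a ≠ 0 := by rwa [polar_comm]
  -- every nonzero singular vector is full
  have hall : ∀ d : V, Q d = 0 → d ≠ 0 → Full H Q d := by
    intro d hd hd0
    obtain ⟨c, hc, hac, hdc⟩ := good_common_opposite hG ha.1 hd ha0 hd0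
    -- `c` is opposite to `a`
    have hcf : Full H Q c := hb.opp hO ha hab hc hac
    exact ha.opp hO hcf (by rwa [polar_comm]) hd (by rwa [polar_comm])
  rw [E, Subgroup.closure_le]
  rintro _ ⟨u, w, hu, hw, rfl⟩
  by_cases hu0 : u = 0
  · subst hu0
    have : siegel Q 0 w hu hw = 1 := by
      ext v
      rw [siegel_apply]
      simp
    rw [this]
    exact H.one_mem
  · exact ((hall u hu hu0).2 w hw).mem hu hw

/-! ### Separation -/

/-- A vector outside the subspace `S` is separated from `S` by a vector orthogonal to `S`. -/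
theorem exists_sep_span [FiniteDimensional F V] (hQ : Nondeg Q) {S : Submodule F V} {x : V}
    (hx : x ∉ S) : ∃ y, (∀ s ∈ S, polar Q s y = 0) ∧ polar Q x y = 1 := by
  obtain ⟨φ, hφx, hφS⟩ := Submodule.exists_dual_map_eq_bot_of_notMem hx inferInstance
  have hinj : Function.Injective (polarBilin Q) := by
    rw [← LinearMap.ker_eq_bot, eq_bot_iff]
    intro z hz
    rw [LinearMap.mem_ker] at hz
    rw [Submodule.mem_bot]
    apply hQ
    intro y
    have := congrArg (fun f => f y) hz
    simpa using this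
  have hsurj : Function.Surjective (polarBilin Q) := by
    have := LinearMap.injective_iff_surjective_of_finrank_eq_finrank (f := polarBilin Q)
      (by rw [Subspace.dual_finrank_eq])
    exact this.1 hinj
  obtain ⟨y, hy⟩ := hsurj φ
  have hy' : ∀ z, polar Q z y = φ z := by
    intro z
    rw [← hy, polar_comm]
    simp
  refine ⟨(φ x)⁻¹ • y, fun s hs => ?_, ?_⟩
  · rw [polar_smul_right, hy']
    have : φ s ∈ S.map φ := Submodule.mem_map_of_mem hs
    rw [hφS] at this
    rw [(Submodule.mem_bot F).1 this, smul_zero]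
  · rw [polar_smul_right, hy', smul_eq_mul, inv_mul_cancel₀ hφx]

end Cfsg.Agent.H885.RootT
end

-- part: H885/Irr
section
/-!
Irreducibility of the group generated by the reflections and the Siegel transformations of a nondegenerate
subspace `W` on `W` (`irr_sub`): the only exception over a finite field is a hyperbolic plane over a field of at
most three elements.
-/

set_option autoImplicit false

namespace Cfsg.Agent.H885.Irr

open QuadraticMap Cfsg.Agent.LieClassical.OrthCore Cfsg.Agent.LieClassical.OrthTrans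
  Cfsg.Agent.LieClassical.OrthFinite Cfsg.Agent.LieClassical.OrthSimple Cfsg.Agent.H885.RootT

variable {F V : Type*} [Field F] [AddCommGroup V] [Module F V] {Q : QuadraticForm F V}

/-- Nonzero vectors of `W` orthogonal to fewer than `finrank W` given vectors. -/
theorem exists_mem_perp {n : ℕ} (u : Fin n → V) (W : Submodule F V)
    (hn : n < Module.finrank F W) : ∃ w ∈ W, w ≠ 0 ∧ ∀ i, polar Q (u i) w = 0 := by
  let f : W →ₗ[F] (Fin n → F) := LinearMap.pi fun i => (polarBilin Q (u i)).comp W.subtype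
  have : Module.Finite F W := Module.finite_of_finrank_pos (by omega)
  have hker : LinearMap.ker f ≠ ⊥ := by
    apply LinearMap.ker_ne_bot_of_finrank_lt
    rw [Module.finrank_fin_fun]
    exact hn
  obtain ⟨w, hw, hw0⟩ := Submodule.exists_mem_ne_zero_of_ne_bot hker
  refine ⟨w, w.2, fun h => hw0 (Subtype.ext h), fun i => ?_⟩
  have := congrFun (LinearMap.mem_ker.1 hw) i
  simpa [f] using this

/-- Nonzero singular vectors of `W` orthogonal to `n` given vectors, `n + 3 ≤ finrank W`. -/
theorem exists_sing_mem_perp [Finite F] {n : ℕ} (u : Fin n → V) (W : Submodule F V)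
    (hn : n + 3 ≤ Module.finrank F W) :
    ∃ w ∈ W, w ≠ 0 ∧ Q w = 0 ∧ ∀ i, polar Q (u i) w = 0 := by
  let f : W →ₗ[F] (Fin n → F) := LinearMap.pi fun i => (polarBilin Q (u i)).comp W.subtype
  have : Module.Finite F W := Module.finite_of_finrank_pos (by omega)
  have h1 := LinearMap.finrank_range_add_finrank_ker f
  have h2 : Module.finrank F (LinearMap.range f) ≤ n := by
    refine le_trans (Submodule.finrank_le _) ?_
    rw [Module.finrank_fin_fun]
  obtain ⟨w, hw, hw0, hQw⟩ := exists_sing_mem (Q := Q.comp W.subtype) (LinearMap.ker f) (by omega)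
  refine ⟨w, w.2, fun h => hw0 (Subtype.ext h), hQw, fun i => ?_⟩
  have := congrFun (LinearMap.mem_ker.1 hw) i
  simpa [f] using this

/-- The restriction of the form to `W` is nondegenerate (elementary terms). -/
def NdOn (Q : QuadraticForm F V) (W : Submodule F V) : Prop :=
  ∀ w ∈ W, (∀ y ∈ W, polar Q w y = 0) → w = 0

theorem NdOn.exists_ne {W : Submodule F V} (h : NdOn Q W) {w : V} (hw : w ∈ W) (hw0 : w ≠ 0) :
    ∃ y ∈ W, polar Q w y ≠ 0 := by
  by_contra hcon
  push Not at hcon
  exact hw0 (h w hw hcon)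

section

variable {W Z : Submodule F V}

/-- A nonsingular vector of `W` not orthogonal to an element of `Z` lies in `Z`. -/
theorem mem_of_refl (hr : ∀ v ∈ W, ∀ hv : Q v ≠ 0, ∀ z ∈ Z, refl Q v hv z ∈ Z) {v z : V}
    (hv : v ∈ W) (hQv : Q v ≠ 0) (hz : z ∈ Z) (hvz : polar Q v z ≠ 0) : v ∈ Z := by
  have h1 := Z.sub_mem hz (hr v hv hQv z hz)
  rw [refl_apply, sub_sub_cancel] at h1
  exact (Z.smul_mem_iff (mul_ne_zero (inv_ne_zero hQv) hvz)).1 h1

theorem eq_of_sing_mem (hZW : Z ≤ W) (hW : NdOn Q W)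
    (hr : ∀ v ∈ W, ∀ hv : Q v ≠ 0, ∀ z ∈ Z, refl Q v hv z ∈ Z) {x : V} (hx : x ∈ Z)
    (hx0 : x ≠ 0) (hQx : Q x = 0) : Z = W := by
  have key : ∀ y ∈ W, polar Q x y ≠ 0 → y ∈ Z := by
    intro y hy hxy
    have hyx : polar Q y x ≠ 0 := by rwa [polar_comm]
    set y' := y - (Q y * (polar Q x y)⁻¹) • x with hy'
    have h1 : Q y' = 0 := by
      rw [hy', sub_eq_add_neg, Q_add, QuadraticMap.map_neg, polar_neg_right, QuadraticMap.map_smul,
        polar_smul_right, hQx, polar_comm Q y x]
      simp only [smul_eq_mul]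
      field_simp
      ring
    have h2 : polar Q x y' = polar Q x y := by
      rw [hy', polar_sub_right, polar_smul_right, polar_self_of_sing hQx, smul_zero, sub_zero]
    have h3 : polar Q y' x = polar Q x y := by rw [polar_comm, h2]
    have h4 : Q (y' - x) = - polar Q x y := by
      rw [sub_eq_add_neg, Q_add, QuadraticMap.map_neg, polar_neg_right, h1, hQx, h3]
      ring
    have hyW : y' ∈ W := W.sub_mem hy (W.smul_mem _ (hZW hx))
    have h5 : y' - x ∈ Z := by
      refine mem_of_refl hr (W.sub_mem hyW (hZW hx)) ?_ hx ?_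
      · rw [h4]; exact neg_ne_zero.2 hxy
      · rw [polar_sub_left, h3, polar_self_of_sing hQx, sub_zero]; exact hxy
    have h6 : y' ∈ Z := by
      have := Z.add_mem h5 hx
      rwa [sub_add_cancel] at this
    have := Z.add_mem h6 (Z.smul_mem (Q y * (polar Q x y)⁻¹) hx)
    rwa [hy', sub_add_cancel] at this
  apply le_antisymm hZW
  intro y hy
  by_cases hxy : polar Q x y = 0
  · obtain ⟨y₁, hy₁, h1⟩ := hW.exists_ne (hZW hx) hx0
    have h2 : y + y₁ ∈ Z := key _ (W.add_mem hy hy₁) (by rw [polar_add_right, hxy, zero_add]; exact h1)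
    have h3 := key _ hy₁ h1
    have := Z.sub_mem h2 h3
    rwa [add_sub_cancel_right] at this
  · exact key y hy hxy

end

/-- **Irreducibility on a nondegenerate subspace.** -/
theorem irr_sub [Finite F] {W Z : Submodule F V} (hZW : Z ≤ W) (hW : NdOn Q W) (hZ0 : Z ≠ ⊥)
    (hr : ∀ v ∈ W, ∀ hv : Q v ≠ 0, ∀ z ∈ Z, refl Q v hv z ∈ Z)
    (hs : ∀ x ∈ W, ∀ w ∈ W, ∀ (hx : Q x = 0) (hw : polar Q x w = 0), ∀ z ∈ Z,
      siegel Q x w hx hw z ∈ Z)
    (hex : ¬ (Nat.card F ≤ 3 ∧ Module.finrank F W = 2 ∧ ∃ x ∈ W, x ≠ 0 ∧ Q x = 0))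
    [Module.Finite F V] : Z = W := by
  classical
  by_cases hsing : ∃ x ∈ Z, x ≠ 0 ∧ Q x = 0
  · obtain ⟨x, hx, hx0, hQx⟩ := hsing
    exact eq_of_sing_mem hZW hW hr hx hx0 hQx
  push Not at hsing
  obtain ⟨z, hz, hz0⟩ := Submodule.exists_mem_ne_zero_of_ne_bot hZ0
  have hc : Q z ≠ 0 := hsing z hz hz0
  by_contra hne
  have hnle : ¬ W ≤ Z := fun h => hne (le_antisymm hZW h)
  obtain ⟨v₀, hv₀, hv₀Z⟩ := SetLike.not_le_iff_exists.1 hnle
  -- a vector of `W` outside `Z` not orthogonal to `z`
  obtain ⟨v, hv, hvZ, hb⟩ : ∃ v ∈ W, v ∉ Z ∧ polar Q v z ≠ 0 := by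
    by_cases h0 : polar Q v₀ z = 0
    · obtain ⟨y, hy, hyz⟩ := hW.exists_ne (hZW hz) hz0
      rw [polar_comm] at hyz
      by_cases hyZ : y ∈ Z
      · refine ⟨v₀ + y, W.add_mem hv₀ hy, fun h => hv₀Z ?_, ?_⟩
        · have := Z.sub_mem h hyZ
          rwa [add_sub_cancel_right] at this
        · rw [polar_add_left, h0, zero_add]; exact hyz
      · exact ⟨y, hy, hyZ, hyz⟩
    · exact ⟨v₀, hv₀, hv₀Z, h0⟩
  -- vectors of `W` outside `Z` not orthogonal to `z` are singular
  have hsg : ∀ y ∈ W, y ∉ Z → polar Q y z ≠ 0 → Q y = 0 := by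
    intro y hy hyZ hyz
    by_contra hQy
    exact hyZ (mem_of_refl hr hy hQy hz hyz)
  have hQv := hsg v hv hvZ hb
  have hv0 : v ≠ 0 := by rintro rfl; exact hvZ Z.zero_mem
  have htarg : ∀ t : F, polar Q v z + 2 * t * Q z ≠ 0 → t * (t * Q z + polar Q v z) = 0 := by
    intro t ht
    have h1 : v + t • z ∉ Z := fun h => hvZ (by
      have := Z.sub_mem h (Z.smul_mem t hz)
      rwa [add_sub_cancel_right] at this)
    have h2 := hsg (v + t • z) (W.add_mem hv (W.smul_mem t (hZW hz))) h1 (by
      rw [polar_add_left, polar_smul_left, polar_self', smul_eq_mul]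
      intro h
      apply ht
      rw [← h]; ring)
    rw [Q_add, QuadraticMap.map_smul, polar_smul_right, hQv] at h2
    simp only [smul_eq_mul] at h2
    rw [← h2]
    ring
  by_cases h2 : (2 : F) = 0
  · -- characteristic two
    have hone : ∀ a : F, a ≠ 0 → a = 1 := by
      have h3 : ∀ t : F, t ≠ 0 → t * Q z = - polar Q v z := by
        intro t ht
        have := htarg t (by rw [h2]; simpa using hb)
        rcases mul_eq_zero.1 this with h | h
        · exact absurd h ht
        · linear_combination h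
      intro a ha
      have h4 := h3 a ha
      have h5 := h3 1 one_ne_zero
      rw [← h5] at h4
      exact mul_right_cancel₀ hc h4
    have hcard : Nat.card F ≤ 3 := by
      have : Fintype F := Fintype.ofFinite F
      have h3 : (Finset.univ : Finset F) ⊆ {0, 1} := by
        intro a _
        by_cases ha : a = 0
        · simp [ha]
        · simp [hone a ha]
      have h4 := Finset.card_le_card h3
      have h5 : ({0, 1} : Finset F).card ≤ 2 := Finset.card_le_two
      rw [Nat.card_eq_fintype_card, ← Finset.card_univ]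
      omega
    have hdim2 : Module.finrank F W ≠ 2 := fun h => hex ⟨hcard, h, v, hv, hv0, hQv⟩
    have hdim : 3 ≤ Module.finrank F W := by
      -- `v, z` are independent in `W`
      have hli : LinearIndependent F ![(⟨v, hv⟩ : W), ⟨z, hZW hz⟩] := by
        rw [LinearIndependent.pair_iff]
        intro s t hst
        have hst' : s • v + t • z = 0 := congrArg Subtype.val hst
        have hs0 : s = 0 := by
          by_contra hs0
          apply hvZ
          have : s • v ∈ Z := by
            have h6 : s • v = - (t • z) := eq_neg_of_add_eq_zero_left hst'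
            rw [h6]
            exact Z.neg_mem (Z.smul_mem _ hz)
          exact (Z.smul_mem_iff hs0).1 this
        refine ⟨hs0, ?_⟩
        rw [hs0, zero_smul, zero_add] at hst'
        rcases smul_eq_zero.1 hst' with h | h
        · exact h
        · exact absurd h hz0
      have := hli.fintype_card_le_finrank
      simp only [Fintype.card_fin] at this
      omega
    obtain ⟨w, hw, hw0, hwp⟩ := exists_mem_perp (Q := Q) ![z, v] W (by omega)
    have hzw : polar Q z w = 0 := hwp 0
    have hvw : polar Q v w = 0 := hwp 1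
    obtain ⟨x, hx, hx0, hQx, hzx⟩ : ∃ x ∈ W, x ≠ 0 ∧ Q x = 0 ∧ polar Q z x = 0 := by
      by_cases hQw : Q w = 0
      · exact ⟨w, hw, hw0, hQw, hzw⟩
      · refine ⟨w + z, W.add_mem hw (hZW hz), ?_, ?_, ?_⟩
        · intro h
          apply hb
          have h6 : polar Q v (w + z) = 0 := by rw [h, polar_zero_right]
          rwa [polar_add_right, hvw, zero_add] at h6
        · rw [Q_add, hone _ hQw, hone _ hc, polar_comm Q w z, hzw, add_zero, ← h2]
          ring
        · rw [polar_add_right, hzw, polar_self', h2, zero_mul, add_zero]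
    obtain ⟨y, hy, hxy, hyz⟩ : ∃ y ∈ W, polar Q x y = 0 ∧ polar Q y z ≠ 0 := by
      by_contra hcon
      push Not at hcon
      obtain ⟨y₀, hy₀, h3⟩ := hW.exists_ne hx hx0
      have h4 : z - (polar Q z y₀ * (polar Q x y₀)⁻¹) • x = 0 := by
        refine hW _ (W.sub_mem (hZW hz) (W.smul_mem _ hx)) fun y hy => ?_
        have h5 := hcon (y - (polar Q x y * (polar Q x y₀)⁻¹) • y₀)
          (W.sub_mem hy (W.smul_mem _ hy₀)) (by
            rw [polar_sub_right, polar_smul_right, smul_eq_mul, mul_assoc, inv_mul_cancel₀ h3]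
            ring)
        rw [polar_sub_left, polar_smul_left, smul_eq_mul, polar_comm Q y z,
          polar_comm Q y₀ z] at h5
        rw [polar_sub_left, polar_smul_left, smul_eq_mul]
        linear_combination h5
      apply hc
      rw [sub_eq_zero] at h4
      rw [h4, QuadraticMap.map_smul, hQx, smul_zero]
    have h3 := hs x hx y hy hQx hxy z hz
    rw [siegel_apply, polar_comm Q x z, hzx] at h3
    have h4 := Z.sub_mem hz h3
    have h5 : z - (z + (0 : F) • y - polar Q y z • x - (Q y * 0) • x) = polar Q y z • x := by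
      module
    rw [h5] at h4
    exact hsing x ((Z.smul_mem_iff hyz).1 h4) hx0 hQx
  · -- odd characteristic
    have hdim : 3 ≤ Module.finrank F W → False := by
      intro hdim
      -- a vector of `W` orthogonal to `z`, outside `Z`
      have key : ∀ w ∈ W, w ∉ Z → polar Q w z = 0 → Q w = - Q z := by
        intro w hw hwZ hwz
        have h3 : z + w ∉ Z := fun h => hwZ (by
          have := Z.sub_mem h hz
          rwa [add_sub_cancel_left] at this)
        have h4 := hsg (z + w) (W.add_mem (hZW hz) hw) h3 (by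
          rw [polar_add_left, polar_self', hwz, add_zero]
          exact mul_ne_zero h2 hc)
        rw [Q_add, polar_comm Q z w, hwz] at h4
        linear_combination h4
      set w₁ := v - (polar Q v z * (2 * Q z)⁻¹) • z with hw₁
      have h2c : 2 * Q z ≠ 0 := mul_ne_zero h2 hc
      have hw₁W : w₁ ∈ W := W.sub_mem hv (W.smul_mem _ (hZW hz))
      have hw₁Z : w₁ ∉ Z := fun h => hvZ (by
        have := Z.add_mem h (Z.smul_mem (polar Q v z * (2 * Q z)⁻¹) hz)
        rwa [hw₁, sub_add_cancel] at this)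
      have hw₁z : polar Q w₁ z = 0 := by
        rw [hw₁, polar_sub_left, polar_smul_left, polar_self', smul_eq_mul, mul_assoc,
          inv_mul_cancel₀ h2c]
        ring
      have hQw₁ := key w₁ hw₁W hw₁Z hw₁z
      obtain ⟨w₂, hw₂, hw₂0, hw₂p⟩ := exists_mem_perp (Q := Q) ![z, w₁] W (by omega)
      have hzw₂ : polar Q z w₂ = 0 := hw₂p 0
      have hw₁w₂ : polar Q w₁ w₂ = 0 := hw₂p 1
      have hw₂z : polar Q w₂ z = 0 := by rw [polar_comm]; exact hzw₂
      by_cases hw₂Z : w₂ ∈ Z
      · have h3 : w₁ + w₂ ∉ Z := fun h => hw₁Z (by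
          have := Z.sub_mem h hw₂Z
          rwa [add_sub_cancel_right] at this)
        have h4 := key _ (W.add_mem hw₁W hw₂) h3 (by rw [polar_add_left, hw₁z, hw₂z, add_zero])
        rw [Q_add, hw₁w₂, hQw₁] at h4
        exact hsing w₂ hw₂Z hw₂0 (by linear_combination h4)
      · have hQw₂ := key w₂ hw₂ hw₂Z hw₂z
        have h3 : w₁ + w₂ ∈ Z := by
          by_contra h3
          have h4 := key _ (W.add_mem hw₁W hw₂) h3 (by rw [polar_add_left, hw₁z, hw₂z, add_zero])
          rw [Q_add, hw₁w₂, hQw₁, hQw₂] at h4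
          exact hc (by linear_combination -h4)
        have h4 : w₁ - w₂ ∈ Z := by
          by_contra h3
          have h4 := key _ (W.sub_mem hw₁W hw₂) h3 (by rw [polar_sub_left, hw₁z, hw₂z, sub_zero])
          rw [sub_eq_add_neg, Q_add, QuadraticMap.map_neg, polar_neg_right, hw₁w₂, hQw₁,
            hQw₂] at h4
          exact hc (by linear_combination -h4)
        have h5 : (2 : F) • w₁ ∈ Z := by
          have := Z.add_mem h3 h4
          have e : w₁ + w₂ + (w₁ - w₂) = (2 : F) • w₁ := by module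
          rwa [e] at this
        exact hw₁Z ((Z.smul_mem_iff h2).1 h5)
    have hdim2 : Module.finrank F W = 2 := by
      have hli : LinearIndependent F ![(⟨v, hv⟩ : W), ⟨z, hZW hz⟩] := by
        rw [LinearIndependent.pair_iff]
        intro s t hst
        have hst' : s • v + t • z = 0 := congrArg Subtype.val hst
        have hs0 : s = 0 := by
          by_contra hs0
          apply hvZ
          have : s • v ∈ Z := by
            have h6 : s • v = - (t • z) := eq_neg_of_add_eq_zero_left hst'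
            rw [h6]
            exact Z.neg_mem (Z.smul_mem _ hz)
          exact (Z.smul_mem_iff hs0).1 this
        refine ⟨hs0, ?_⟩
        rw [hs0, zero_smul, zero_add] at hst'
        rcases smul_eq_zero.1 hst' with h | h
        · exact h
        · exact absurd h hz0
      have := hli.fintype_card_le_finrank
      simp only [Fintype.card_fin] at this
      by_contra h
      exact hdim (by omega)
    apply hex
    refine ⟨?_, hdim2, v, hv, hv0, hQv⟩
    have : Fintype F := Fintype.ofFinite F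
    have h3 : (Finset.univ : Finset F) ⊆
        {0, - (polar Q v z * (Q z)⁻¹), - (polar Q v z * (2 * Q z)⁻¹)} := by
      intro t _
      by_contra ht
      simp only [Finset.mem_insert, Finset.mem_singleton, not_or] at ht
      obtain ⟨h4, h5, h6⟩ := ht
      have h7 := htarg t (fun h => h6 (by
        have h2c : 2 * Q z ≠ 0 := mul_ne_zero h2 hc
        field_simp
        linear_combination h))
      rcases mul_eq_zero.1 h7 with h | h
      · exact h4 h
      · apply h5
        field_simp
        linear_combination h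
    have h4 := Finset.card_le_card h3
    have h5 : ({0, - (polar Q v z * (Q z)⁻¹), - (polar Q v z * (2 * Q z)⁻¹)} : Finset F).card ≤ 3 :=
      Finset.card_le_three
    rw [Nat.card_eq_fintype_card, ← Finset.card_univ]
    omega

end Cfsg.Agent.H885.Irr
end

-- part: H885/Nondeg
section
/-!
Maximality in `E Q = Ω(Q)` of the stabiliser of a nondegenerate subspace, all characteristics:
`V = W ⊥ U` with `6 ≤ dim U`, `dim W ≤ dim U`, no element of `E Q` mapping `U` onto `W`, and `W` not a hyperbolic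
plane over a field of at most three elements.
-/

set_option autoImplicit false

namespace Cfsg.Agent.H885.Nondeg

open QuadraticMap Cfsg.Agent.LieClassical.OrthCore Cfsg.Agent.LieClassical.OrthTrans
  Cfsg.Agent.LieClassical.OrthFinite Cfsg.Agent.LieClassical.OrthSimple Cfsg.Agent.H885.RootT
  Cfsg.Agent.H885.Irr Cfsg.Agent.H883.Bridge

variable {F V : Type*} [Field F] [AddCommGroup V] [Module F V] {Q : QuadraticForm F V}

/-- `V` is the sum of the orthogonal subspaces `W` and `U`. -/
structure Split (Q : QuadraticForm F V) (W U : Submodule F V) : Prop where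
  perp : ∀ w ∈ W, ∀ u ∈ U, polar Q w u = 0
  sup : W ⊔ U = ⊤

variable {W U : Submodule F V}

theorem Split.symm (h : Split Q W U) : Split Q U W :=
  ⟨fun u hu w hw => by rw [polar_comm]; exact h.perp w hw u hu, by rw [sup_comm]; exact h.sup⟩

theorem Split.perp' (h : Split Q W U) {u w : V} (hu : u ∈ U) (hw : w ∈ W) : polar Q u w = 0 := by
  rw [polar_comm]; exact h.perp w hw u hu

theorem Split.exists_add (h : Split Q W U) (v : V) : ∃ w ∈ W, ∃ u ∈ U, w + u = v :=
  Submodule.mem_sup.1 (by rw [h.sup]; exact Submodule.mem_top)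

theorem Split.ndOn_left (h : Split Q W U) (hQ : Nondeg Q) : NdOn Q W := by
  intro w hw hall
  apply hQ
  intro y
  obtain ⟨w', hw', u, hu, rfl⟩ := h.exists_add y
  rw [polar_add_right, hall w' hw', h.perp w hw u hu, add_zero]

theorem Split.ndOn_right (h : Split Q W U) (hQ : Nondeg Q) : NdOn Q U := h.symm.ndOn_left hQ

theorem Split.mem_right_iff (h : Split Q W U) (hQ : Nondeg Q) {v : V} :
    v ∈ U ↔ ∀ w ∈ W, polar Q w v = 0 := by
  constructor
  · intro hv w hw
    exact h.perp w hw v hv
  · intro hv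
    obtain ⟨w', hw', u, hu, rfl⟩ := h.exists_add v
    have h1 : w' = 0 := by
      apply h.ndOn_left hQ w' hw'
      intro y hy
      have := hv y hy
      rwa [polar_add_right, h.perp y hy u hu, add_zero, polar_comm] at this
    rw [h1, zero_add]
    exact hu

theorem Split.mem_left_iff (h : Split Q W U) (hQ : Nondeg Q) {v : V} :
    v ∈ W ↔ ∀ u ∈ U, polar Q u v = 0 := h.symm.mem_right_iff hQ

theorem Split.inf (h : Split Q W U) (hQ : Nondeg Q) : W ⊓ U = ⊥ := by
  rw [eq_bot_iff]
  rintro v ⟨hv1, hv2⟩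
  rw [Submodule.mem_bot]
  exact h.ndOn_left hQ v hv1 fun y hy => h.perp' hv2 hy

theorem Split.finrank [Module.Finite F V] (h : Split Q W U) (hQ : Nondeg Q) :
    Module.finrank F W + Module.finrank F U = Module.finrank F V := by
  have h1 := Submodule.finrank_sup_add_finrank_inf_eq W U
  rw [h.sup, h.inf hQ, finrank_top, finrank_bot] at h1
  omega

/-- An isometry stabilises `W` iff it stabilises `U`. -/
theorem Split.mem_stab_iff (h : Split Q W U) (hQ : Nondeg Q) {g : V ≃ₗ[F] V} (hg : g ∈ O Q) :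
    g ∈ stab W ↔ g ∈ stab U := by
  have key : ∀ {W U : Submodule F V}, Split Q W U → g ∈ stab W → g ∈ stab U := by
    intro W U h hgW v
    rw [h.mem_right_iff hQ, h.mem_right_iff hQ]
    constructor
    · intro hv w hw
      obtain ⟨w, rfl⟩ := g.surjective w
      rw [polar_map hg]
      exact hv w ((hgW w).2 hw)
    · intro hv w hw
      rw [← polar_map hg]
      exact hv _ ((hgW w).1 hw)
  exact ⟨key h, key h.symm⟩

theorem Split.stab_inf_E (h : Split Q W U) (hQ : Nondeg Q) : stab W ⊓ E Q = stab U ⊓ E Q := by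
  ext g
  constructor
  · rintro ⟨h1, h2⟩
    exact ⟨(h.mem_stab_iff hQ (E_le_O h2)).1 h1, h2⟩
  · rintro ⟨h1, h2⟩
    exact ⟨(h.mem_stab_iff hQ (E_le_O h2)).2 h1, h2⟩

/-- Siegel transformations inside `U` stabilise `W`. -/
theorem Split.SM_right [Module.Finite F V] (h : Split Q W U) {x w : V} (hx : x ∈ U) (hw : w ∈ U)
    (hQx : Q x = 0) (hxw : polar Q x w = 0) : SM (stab W ⊓ E Q) Q x w := by
  refine ⟨hQx, hxw, ?_, siegel_mem_E _ _⟩
  apply mem_stab_of_le
  intro y hy
  rw [siegel_apply, h.perp' hx hy, h.perp' hw hy]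
  simpa using hy

/-- Siegel transformations inside `W` stabilise `W`. -/
theorem Split.SM_left [Module.Finite F V] {x w : V} (hx : x ∈ W) (hw : w ∈ W)
    (hQx : Q x = 0) (hxw : polar Q x w = 0) : SM (stab W ⊓ E Q) Q x w := by
  refine ⟨hQx, hxw, ?_, siegel_mem_E _ _⟩
  apply mem_stab_of_le
  intro y hy
  rw [siegel_apply]
  exact W.sub_mem (W.sub_mem (W.add_mem hy (W.smul_mem _ hw)) (W.smul_mem _ hx)) (W.smul_mem _ hx)

theorem Split.mem_T_right [Module.Finite F V] (h : Split Q W U) {x w : V} (hx : x ∈ U) (hw : w ∈ U)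
    (hQx : Q x = 0) (hxw : polar Q x w = 0) : w ∈ T (stab W ⊓ E Q) Q x hQx := fun c =>
  h.SM_right hx (U.smul_mem c hw) hQx (by rw [polar_smul_right, hxw, smul_zero])

/-! ### Elements of `E (Q|U)` -/

theorem polar_comp_subtype (U : Submodule F V) (x y : U) :
    polar (Q.comp U.subtype) x y = polar Q (x : V) (y : V) := rfl

theorem comp_subtype_apply (U : Submodule F V) (x : U) : (Q.comp U.subtype) x = Q (x : V) := rfl

theorem nondeg_comp (hU : NdOn Q U) : Nondeg (Q.comp U.subtype) := by
  intro x hx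
  exact Subtype.ext (hU x x.2 fun y hy => hx ⟨y, hy⟩)

/-- Elements of `E (Q|U)` extend to elements of any group containing the Siegel transformations of
`U`. -/
theorem exists_ext {D : Subgroup (V ≃ₗ[F] V)}
    (hD : ∀ x ∈ U, ∀ w ∈ U, Q x = 0 → polar Q x w = 0 → SM D Q x w) {g : U ≃ₗ[F] U}
    (hg : g ∈ E (Q.comp U.subtype)) :
    ∃ g' ∈ D, (∀ u : U, g' (u : V) = (g u : V)) ∧
      ∀ w : V, (∀ u ∈ U, polar Q u w = 0) → g' w = w := by
  induction hg using Subgroup.closure_induction with
  | mem x hx =>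
    obtain ⟨u, w, hu, hw, rfl⟩ := hx
    have hu' : Q (u : V) = 0 := hu
    have hw' : polar Q (u : V) (w : V) = 0 := hw
    refine ⟨siegel Q u w hu' hw', (hD u u.2 w w.2 hu' hw').mem hu' hw', fun v => ?_, fun v hv => ?_⟩
    · rw [siegel_apply, siegel_apply]
      rfl
    · rw [siegel_apply, hv u u.2, hv w w.2]
      simp
  | one => exact ⟨1, D.one_mem, fun u => rfl, fun w _ => rfl⟩
  | mul x y _ _ hx hy =>
    obtain ⟨g1, h1, e1, f1⟩ := hx
    obtain ⟨g2, h2, e2, f2⟩ := hy
    refine ⟨g1 * g2, D.mul_mem h1 h2, fun u => ?_, fun w hw => ?_⟩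
    · show g1 (g2 u) = _
      rw [e2, e1]
      rfl
    · show g1 (g2 w) = w
      rw [f2 w hw, f1 w hw]
  | inv x _ hx =>
    obtain ⟨g1, h1, e1, f1⟩ := hx
    refine ⟨g1⁻¹, D.inv_mem h1, fun u => ?_, fun w hw => ?_⟩
    · show g1.symm u = _
      rw [LinearEquiv.symm_apply_eq, e1]
      congr 1
      exact (LinearEquiv.apply_symm_apply x u).symm
    · show g1.symm w = w
      rw [LinearEquiv.symm_apply_eq, f1 w hw]

/-- A group containing the Siegel transformations of `U` is transitive on the nonzero singular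
vectors of `U`. -/
theorem exists_trans {D : Subgroup (V ≃ₗ[F] V)} (hGU : Good (Q.comp U.subtype))
    (hD : ∀ x ∈ U, ∀ w ∈ U, Q x = 0 → polar Q x w = 0 → SM D Q x w) {x y : V} (hx : x ∈ U)
    (hy : y ∈ U) (hx0 : x ≠ 0) (hy0 : y ≠ 0) (hQx : Q x = 0) (hQy : Q y = 0) :
    ∃ g ∈ D, g x = y := by
  obtain ⟨g, hg, e⟩ := hGU.trans_sing (x := ⟨x, hx⟩) (x' := ⟨y, hy⟩) hQx hQy
    (fun h => hx0 (congrArg Subtype.val h)) (fun h => hy0 (congrArg Subtype.val h))
  obtain ⟨g', hg', e', -⟩ := exists_ext hD hg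
  exact ⟨g', hg', by rw [e' ⟨x, hx⟩, e]⟩

/-- Singular vectors span `U`. -/
theorem le_of_sing (hGU : Good (Q.comp U.subtype)) {S : Submodule F V}
    (h : ∀ x ∈ U, Q x = 0 → x ∈ S) : U ≤ S := by
  intro v hv
  obtain ⟨x, y, hxy⟩ := hGU.exists_hyp
  exact sing_induction hxy (P := fun a : U => (a : V) ∈ S) (fun a c ha hc => S.add_mem ha hc)
    (fun a ha => h a a.2 ha) ⟨v, hv⟩

/-- In `U ∩ a^⊥`, `a ∈ U` singular, every norm occurs. -/
theorem exists_norm (hGU : Good (Q.comp U.subtype)) {a : V} (ha : a ∈ U) (ha0 : a ≠ 0)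
    (hQa : Q a = 0) (c : F) : ∃ v ∈ U, polar Q a v = 0 ∧ Q v = c := by
  obtain ⟨b, hb⟩ := Cfsg.Agent.LieClassical.OrthTrans.exists_hyp hGU.nondeg (x := ⟨a, ha⟩) hQa
    (fun h => ha0 (congrArg Subtype.val h))
  obtain ⟨z, w, hzw, h1, h2, -, -⟩ := hGU.exists_hyp2 hb
  refine ⟨z + c • w, U.add_mem z.2 (U.smul_mem c w.2), ?_, ?_⟩
  · have h1' : polar Q a z = 0 := h1
    have h2' : polar Q a w = 0 := h2
    rw [polar_add_right, polar_smul_right, h1', h2', smul_zero, add_zero]
  · have h3 : Q (z : V) = 0 := hzw.left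
    have h4 : Q (w : V) = 0 := hzw.right
    have h5 : polar Q (z : V) (w : V) = 1 := hzw.pair
    rw [Q_add, QuadraticMap.map_smul, polar_smul_right, h3, h4, h5]
    simp

/-- Product of a reflection of `W` and a reflection of `U` with vectors of the same norm. -/
theorem Split.refl_mul_refl_mem [Module.Finite F V] (h : Split Q W U) (hG : Good Q) {v v' : V}
    (hv : v ∈ W) (hv' : v' ∈ U) (hQv : Q v ≠ 0) (hQv' : Q v' ≠ 0) (he : Q v' = Q v) :
    refl Q v hQv * refl Q v' hQv' ∈ stab W ⊓ E Q := by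
  refine ⟨?_, hG.refl_mul_refl_mem hQv' hQv he⟩
  apply mem_stab_of_le
  intro y hy
  show refl Q v hQv (refl Q v' hQv' y) ∈ W
  have h1 : refl Q v' hQv' y = y := by
    rw [refl_apply, h.perp' hv' hy]
    simp
  rw [h1, refl_apply]
  exact W.sub_mem hy (W.smul_mem _ hv)

/-- **Step A.** If `T_a(M) ∩ W ≠ 0` for a nonzero singular `a ∈ U` then `M = E Q`. -/
theorem Split.E_le_of_mem_T [Finite F] [Module.Finite F V] (h : Split Q W U) (hG : Good Q)
    (hU : 5 ≤ Module.finrank F U)
    (hex : ¬ (Nat.card F ≤ 3 ∧ Module.finrank F W = 2 ∧ ∃ x ∈ W, x ≠ 0 ∧ Q x = 0))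
    {M : Subgroup (V ≃ₗ[F] V)} (hM : stab W ⊓ E Q ≤ M) (hMO : M ≤ O Q) {a w : V} (ha : a ∈ U)
    (ha0 : a ≠ 0) (hQa : Q a = 0) (hw : w ∈ W) (hw0 : w ≠ 0) (hwT : w ∈ T M Q a hQa) :
    E Q ≤ M := by
  have hGU : Good (Q.comp U.subtype) := good_of_finite (nondeg_comp (h.ndOn_right hG.nondeg)) hU
  have hZ : T M Q a hQa ⊓ W = W := by
    refine irr_sub inf_le_right (h.ndOn_left hG.nondeg) ?_ ?_ ?_ hex
    · intro hb
      have : w ∈ T M Q a hQa ⊓ W := ⟨hwT, hw⟩
      rw [hb, Submodule.mem_bot] at this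
      exact hw0 this
    · rintro v hv hQv z ⟨hz1, hz2⟩
      obtain ⟨v', hv', hav', hQv'⟩ := exists_norm hGU ha ha0 hQa (Q v)
      have hQv'0 : Q v' ≠ 0 := by rw [hQv']; exact hQv
      have hm := h.refl_mul_refl_mem hG hv hv' hQv hQv'0 hQv'
      have e1 : (refl Q v hQv * refl Q v' hQv'0) a = a := by
        show refl Q v hQv (refl Q v' hQv'0 a) = a
        have e0 : refl Q v' hQv'0 a = a := by
          rw [refl_apply, polar_comm Q v' a, hav']
          simp
        rw [e0, refl_apply, h.perp v hv a ha]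
        simp
      have e2 : (refl Q v hQv * refl Q v' hQv'0) z = refl Q v hQv z := by
        show refl Q v hQv (refl Q v' hQv'0 z) = _
        congr 1
        rw [refl_apply, h.perp' hv' hz2]
        simp
      refine ⟨?_, ?_⟩
      · have h3 := T_conj (hM hm) (hMO (hM hm)) hz1 (by rw [e1]; exact hQa)
        rw [e2] at h3
        show refl Q v hQv z ∈ T M Q a hQa
        simpa only [e1] using h3
      · rw [refl_apply]
        exact W.sub_mem hz2 (W.smul_mem _ hv)
    · rintro x hx y hy hQx hxy z ⟨hz1, hz2⟩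
      have hm := (Split.SM_left (Q := Q) hx hy hQx hxy).mem hQx hxy
      have e1 : siegel Q x y hQx hxy a = a := by
        rw [siegel_apply, h.perp x hx a ha, h.perp y hy a ha]
        simp
      refine ⟨?_, (hm.1 z).1 hz2⟩
      have h3 := T_conj (hM hm) (hMO (hM hm)) hz1 (by rw [e1]; exact hQa)
      show siegel Q x y hQx hxy z ∈ T M Q a hQa
      simpa only [e1] using h3
  have hfull : Full M Q a := by
    refine full_of_T_eq (hx := hQa) fun v hv => ?_
    obtain ⟨w', hw', u, hu, rfl⟩ := h.exists_add v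
    have hau : polar Q a u = 0 := by
      rwa [polar_add_right, h.perp' ha hw', zero_add] at hv
    have h1 : w' ∈ T M Q a hQa := by
      rw [← hZ] at hw'
      exact hw'.1
    exact Submodule.add_mem _ h1 (T_mono hM (h.mem_T_right ha hu hQa hau))
  obtain ⟨b, hb⟩ := Cfsg.Agent.LieClassical.OrthTrans.exists_hyp hGU.nondeg (x := ⟨a, ha⟩) hQa
    (fun h => ha0 (congrArg Subtype.val h))
  have hab : polar Q a (b : V) = 1 := hb.pair
  have hb0 : (b : V) ≠ 0 := by
    intro h0
    rw [h0, polar_zero_right] at hab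
    exact zero_ne_one hab
  obtain ⟨g, hg, e⟩ := exists_trans hGU (D := stab W ⊓ E Q)
    (fun x hx w hw h1 h2 => h.SM_right hx hw h1 h2) ha b.2 ha0 hb0 hQa hb.right
  have hfb : Full M Q (b : V) := by
    rw [← e]
    exact hfull.conj (hM hg) (hMO (hM hg))
  exact E_le_of_full hG hMO hfull hfb (by rw [hab]; exact one_ne_zero)

/-- A commutator computation: if `w ∈ T_l(M)`, `b ⊥ w`, `b` not orthogonal to `l`, `a ⊥ l, w, b` singular
and `b ∈ T_a(M)`, then `w ∈ T_a(M)`. -/
theorem mem_T_of_commutator {M : Subgroup (V ≃ₗ[F] V)} (hMO : M ≤ O Q) {l w a b : V}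
    {hl : Q l = 0} (hw : w ∈ T M Q l hl) {ha : Q a = 0} (hal : polar Q l a = 0)
    (haw : polar Q w a = 0) (hbw : polar Q w b = 0) (hbl : polar Q l b ≠ 0) (hQw : Q w = 0)
    (hb : b ∈ T M Q a ha) : w ∈ T M Q a ha := by
  have hS := SM_of_mem_T hw
  have hlw := hS.perp
  have hm := hS.mem hl hlw
  have e1 : siegel Q l w hl hlw a = a := by
    rw [siegel_apply, hal, haw]; simp
  have e2 : siegel Q l w hl hlw b = b + polar Q l b • w := by
    rw [siegel_apply, hbw, hQw]; simp
  have h1 := T_conj hm (hMO hm) hb (by rw [e1]; exact ha)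
  rw [e2] at h1
  have h2 : b + polar Q l b • w ∈ T M Q a ha := by simpa only [e1] using h1
  have h3 := Submodule.sub_mem _ h2 hb
  rw [add_sub_cancel_left] at h3
  exact ((T M Q a ha).smul_mem_iff hbl).1 h3

/-- **Maximality of the stabiliser of a nondegenerate subspace** (the smaller one, `W`). -/
theorem Split.maximal [Finite F] [Module.Finite F V] (h : Split Q W U) (hQ : Nondeg Q)
    (hU : 6 ≤ Module.finrank F U) (hWU : Module.finrank F W ≤ Module.finrank F U) (hW0 : W ≠ ⊥)
    (hex : ¬ (Nat.card F ≤ 3 ∧ Module.finrank F W = 2 ∧ ∃ x ∈ W, x ≠ 0 ∧ Q x = 0))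
    (hniso : ∀ g ∈ E Q, U.map (g : V →ₗ[F] V) ≠ W) :
    Cfsg.Geo.IsMaximalIn (E Q) (stab W ⊓ E Q) := by
  have hfr := h.finrank hQ
  have hG : Good Q := good_of_finite hQ (by omega)
  have hGU : Good (Q.comp U.subtype) :=
    good_of_finite (nondeg_comp (h.ndOn_right hQ)) (by omega)
  refine ⟨lt_of_le_of_ne inf_le_right ?_, fun M hM hME => ?_⟩
  · -- properness
    intro heq
    obtain ⟨x, hx0, hQx⟩ := hGU.sing
    have hx0' : (x : V) ≠ 0 := fun h0 => hx0 (Subtype.ext h0)
    obtain ⟨w, hw, hw0⟩ := Submodule.exists_mem_ne_zero_of_ne_bot hW0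
    obtain ⟨w', hw', hww'⟩ := (h.ndOn_left hQ).exists_ne hw hw0
    have hxw : polar Q (x : V) w = 0 := h.perp' x.2 hw
    replace hQx : Q (x : V) = 0 := hQx
    have hm : siegel Q (x : V) w hQx hxw ∈ stab W ⊓ E Q := by
      rw [heq]; exact siegel_mem_E _ _
    have h1 := (hm.1 w').1 hw'
    rw [siegel_apply, h.perp' x.2 hw'] at h1
    have h2 : polar Q w w' • (x : V) ∈ W := by
      have h3 := W.sub_mem hw' h1
      have e : w' - (w' + (0 : F) • w - polar Q w w' • (x : V) - (Q w * 0) • (x : V)) =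
          polar Q w w' • (x : V) := by module
      rwa [e] at h3
    have h3 : (x : V) ∈ W := (W.smul_mem_iff hww').1 h2
    have h4 : (x : V) ∈ W ⊓ U := ⟨h3, x.2⟩
    rw [h.inf hQ, Submodule.mem_bot] at h4
    exact hx0' h4
  · by_cases hMW : M ≤ stab W ⊓ E Q
    · exact Or.inl (le_antisymm hMW hM)
    right
    have hMO : M ≤ O Q := hME.trans E_le_O
    obtain ⟨g, hgM, hg⟩ := SetLike.not_le_iff_exists.1 hMW
    have hgO : g ∈ O Q := hMO hgM
    have hgW : g ∉ stab U := fun hgU => hg ⟨(h.mem_stab_iff hQ hgO).2 hgU, hME hgM⟩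
    -- a singular vector of `U` mapped outside `U ∪ W`
    obtain ⟨x, hxU, hQx, hgxU, hgxW⟩ :
        ∃ x ∈ U, Q x = 0 ∧ g x ∉ U ∧ g x ∉ W := by
      by_contra hcon
      push Not at hcon
      obtain ⟨x₁, hx₁, hQx₁, hgx₁⟩ : ∃ x ∈ U, Q x = 0 ∧ g x ∉ U := by
        by_contra hc
        push Not at hc
        apply hgW
        apply mem_stab_of_le
        intro v hv
        exact (le_of_sing hGU (S := U.comap (g : V →ₗ[F] V)) hc) hv
      obtain ⟨x₂, hx₂, hQx₂, hgx₂⟩ : ∃ x ∈ U, Q x = 0 ∧ g x ∉ W := by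
        by_contra hc
        push Not at hc
        have h1 : U ≤ W.comap (g : V →ₗ[F] V) := le_of_sing hGU hc
        apply hniso g (hME hgM)
        have h2 : U.map (g : V →ₗ[F] V) ≤ W := Submodule.map_le_iff_le_comap.2 h1
        refine Submodule.eq_of_le_of_finrank_le h2 ?_
        rw [LinearEquiv.finrank_map_eq g U]
        exact hWU
      have h1 : g x₁ ∈ W := hcon x₁ hx₁ hQx₁ hgx₁
      have h2 : g x₂ ∈ U := by
        by_contra h2
        exact hgx₂ (hcon x₂ hx₂ hQx₂ h2)
      have h3 : polar Q x₁ x₂ = 0 := by rw [← polar_map hgO]; exact h.perp _ h1 _ h2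
      have h4 : Q (x₁ + x₂) = 0 := by rw [Q_add, hQx₁, hQx₂, h3]; simp
      by_cases h5 : g (x₁ + x₂) ∈ U
      · rw [map_add] at h5
        apply hgx₁
        have := U.sub_mem h5 h2
        rwa [add_sub_cancel_right] at this
      · have h6 := hcon _ (U.add_mem hx₁ hx₂) h4 h5
        rw [map_add] at h6
        apply hgx₂
        have := W.sub_mem h6 h1
        rwa [add_sub_cancel_left] at this
    have hx0 : x ≠ 0 := by
      rintro rfl
      apply hgxU
      rw [map_zero]
      exact U.zero_mem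
    -- a second singular vector of `U` orthogonal to `x`
    obtain ⟨y, hyU, hy0, hQy, hxy, hyx⟩ : ∃ y ∈ U, y ≠ 0 ∧ Q y = 0 ∧ polar Q x y = 0 ∧
        ∀ c : F, y ≠ c • x := by
      obtain ⟨x', hx'⟩ := Cfsg.Agent.LieClassical.OrthTrans.exists_hyp hGU.nondeg (x := ⟨x, hxU⟩) hQx
        (fun h => hx0 (congrArg Subtype.val h))
      obtain ⟨y, hy0, hQy, h1, h2⟩ := hGU.perp _ _ hx'
      refine ⟨y, y.2, fun h0 => hy0 (Subtype.ext h0), hQy, h1, fun c hc => ?_⟩
      have h3 : polar Q (x' : V) (y : V) = 0 := h2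
      have h4 : polar Q x (x' : V) = 1 := hx'.pair
      rw [hc, polar_smul_right, polar_comm, h4, smul_eq_mul, mul_one] at h3
      rw [h3, zero_smul] at hc
      exact hy0 (Subtype.ext hc)
    have hgyT : g y ∈ T M Q (g x) (by rw [mem_O.1 hgO]; exact hQx) :=
      T_conj hgM hgO (T_mono hM (h.mem_T_right hxU hyU hQx hxy)) _
    have hQp : Q (g x) = 0 := by rw [mem_O.1 hgO]; exact hQx
    have hQs : Q (g y) = 0 := by rw [mem_O.1 hgO]; exact hQy
    have hps : polar Q (g x) (g y) = 0 := by rw [polar_map hgO]; exact hxy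
    have hsp : ∀ c : F, g y ≠ c • g x := by
      intro c hc
      rw [← map_smul] at hc
      exact hyx c (g.injective hc)
    -- the key data
    obtain ⟨l, w, b, hQl, hQw, hwT, hbU, hQb, hwb, hlb, hwU, hl, hw⟩ :
        ∃ (l w b : V) (hQl : Q l = 0) (_ : Q w = 0), w ∈ T M Q l hQl ∧ b ∈ U ∧ Q b = 0 ∧
          polar Q w b = 0 ∧ polar Q l b ≠ 0 ∧ w ∉ U ∧
          (∀ a, polar Q (g x) a = 0 → polar Q (g y) a = 0 → polar Q l a = 0) ∧
          (∀ a, polar Q (g x) a = 0 → polar Q (g y) a = 0 → polar Q w a = 0) := by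
      by_cases hLU : ∃ α β : F, (α • g x + β • g y) ∈ U ∧ (α • g x + β • g y) ≠ 0
      · obtain ⟨α, β, h1, h2⟩ := hLU
        set s := α • g x + β • g y with hs
        have hQs' : Q s = 0 := by
          rw [hs, Q_add, QuadraticMap.map_smul, QuadraticMap.map_smul, polar_smul_left,
            polar_smul_right, hQp, hQs, hps]
          simp
        have hβ : β ≠ 0 := by
          rintro rfl
          rw [zero_smul, add_zero] at hs
          have hα : α ≠ 0 := by
            rintro rfl
            exact h2 (by rw [hs, zero_smul])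
          rw [hs] at h1
          exact hgxU ((U.smul_mem_iff hα).1 h1)
        have hsT : s ∈ T M Q (g x) hQp :=
          Submodule.add_mem _ (Submodule.smul_mem _ _ (self_mem_T _)) (Submodule.smul_mem _ _ hgyT)
        have hpT : g x ∈ T M Q s hQs' := T_symm hsT hQs'
        obtain ⟨b, hbU, hQb, hsb⟩ : ∃ b ∈ U, Q b = 0 ∧ polar Q s b ≠ 0 := by
          obtain ⟨b, hb⟩ := Cfsg.Agent.LieClassical.OrthTrans.exists_hyp hGU.nondeg (x := ⟨s, h1⟩) hQs'
            (fun h => h2 (congrArg Subtype.val h))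
          refine ⟨b, b.2, hb.right, ?_⟩
          have : polar Q s (b : V) = 1 := hb.pair
          rw [this]
          exact one_ne_zero
        have hxp : polar Q (g x) s = 0 := perp_of_mem_T hsT
        refine ⟨s, g x - (polar Q (g x) b * (polar Q s b)⁻¹) • s, b, hQs', ?_,
          Submodule.sub_mem _ hpT (Submodule.smul_mem _ _ (self_mem_T _)), hbU, hQb, ?_, hsb,
          ?_, ?_, ?_⟩
        · rw [sub_eq_add_neg, Q_add, QuadraticMap.map_neg, polar_neg_right, QuadraticMap.map_smul,
            polar_smul_right, hQp, hQs', hxp]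
          simp
        · rw [polar_sub_left, polar_smul_left, smul_eq_mul, mul_assoc, inv_mul_cancel₀ hsb]
          ring
        · intro h3
          apply hgxU
          have := U.add_mem h3 (U.smul_mem (polar Q (g x) b * (polar Q s b)⁻¹) h1)
          rwa [sub_add_cancel] at this
        · intro a h3 h4
          rw [hs, polar_add_left, polar_smul_left, polar_smul_left, h3, h4]
          simp
        · intro a h3 h4
          have h5 : polar Q s a = 0 := by
            rw [hs, polar_add_left, polar_smul_left, polar_smul_left, h3, h4]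
            simp
          rw [polar_sub_left, polar_smul_left, h5, h3]
          simp
      · push Not at hLU
        obtain ⟨b, hbU, hQb, hpb⟩ : ∃ b ∈ U, Q b = 0 ∧ polar Q (g x) b ≠ 0 := by
          by_contra hc
          push Not at hc
          apply hgxW
          rw [h.mem_left_iff hQ]
          have h3 : U ≤ LinearMap.ker (polarBilin Q (g x)) := le_of_sing hGU fun b hb hQb => by
            rw [LinearMap.mem_ker]
            exact hc b hb hQb
          intro u hu
          rw [polar_comm]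
          exact LinearMap.mem_ker.1 (h3 hu)
        refine ⟨g x, g y - (polar Q (g y) b * (polar Q (g x) b)⁻¹) • g x, b, hQp, ?_,
          Submodule.sub_mem _ hgyT (Submodule.smul_mem _ _ (self_mem_T _)), hbU, hQb, ?_, hpb,
          ?_, fun a h3 _ => h3, ?_⟩
        · rw [sub_eq_add_neg, Q_add, QuadraticMap.map_neg, polar_neg_right, QuadraticMap.map_smul,
            polar_smul_right, hQp, hQs, polar_comm Q (g y) (g x), hps]
          simp
        · rw [polar_sub_left, polar_smul_left, smul_eq_mul, mul_assoc, inv_mul_cancel₀ hpb]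
          ring
        · intro h3
          have e : g y - (polar Q (g y) b * (polar Q (g x) b)⁻¹) • g x =
              (-(polar Q (g y) b * (polar Q (g x) b)⁻¹)) • g x + (1 : F) • g y := by module
          rw [e] at h3
          have h4 := hLU _ _ h3
          rw [← e, sub_eq_zero] at h4
          exact hsp _ h4
        · intro a h3 h4
          rw [polar_sub_left, polar_smul_left, h3, h4]
          simp
    obtain ⟨a, haU, ha0, hQa, hap⟩ :=
      exists_sing_mem_perp (Q := Q) ![g x, g y, b] U (by omega)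
    have h1 : polar Q (g x) a = 0 := hap 0
    have h2 : polar Q (g y) a = 0 := hap 1
    have h3 : polar Q b a = 0 := hap 2
    have hbT : b ∈ T M Q a hQa :=
      T_mono hM (h.mem_T_right haU hbU hQa (by rw [polar_comm]; exact h3))
    have hwTa : w ∈ T M Q a hQa :=
      mem_T_of_commutator hMO hwT (hl a h1 h2) (hw a h1 h2) hwb hlb hQw hbT
    obtain ⟨w₀, hw₀, u₀, hu₀, e⟩ := h.exists_add w
    have hw₀0 : w₀ ≠ 0 := by
      rintro rfl
      rw [zero_add] at e
      exact hwU (by rw [← e]; exact hu₀)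
    have hau₀ : polar Q a u₀ = 0 := by
      have := perp_of_mem_T hwTa
      rwa [← e, polar_add_right, h.perp' haU hw₀, zero_add] at this
    have hw₀T : w₀ ∈ T M Q a hQa := by
      have := Submodule.sub_mem _ hwTa (T_mono hM (h.mem_T_right haU hu₀ hQa hau₀))
      rwa [← e, add_sub_cancel_right] at this
    exact le_antisymm hME
      (h.E_le_of_mem_T hG (by omega) hex hM hMO haU ha0 hQa hw₀ hw₀0 hw₀T)

end Cfsg.Agent.H885.Nondeg
end
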