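import Mathlib
import Cfsg.Agent.H886.Decomp
import Cfsg.Agent.H885.Nondeg
import Cfsg.Agent.H886.Rigid
import Cfsg.Agent.H886.NotMax
set_option linter.all false

-- part: H885/C2Scalar
section
/-!
Scalar lemmas over finite fields: binary quadratic forms `α x² + β y² = γ`, also with `x, y ≠ 0`; squares.
-/

set_option autoImplicit false
set_option linter.unusedSectionVars false

namespace Cfsg.Agent.H885.C2Scalar

variable {F : Type*} [Field F]

/-- An element outside a small finite set. -/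
theorem exists_avoid [Finite F] (s : Finset F) (h : s.card < Nat.card F) : ∃ x, x ∉ s := by
  have : Fintype F := Fintype.ofFinite F
  rw [Nat.card_eq_fintype_card, ← Finset.card_univ] at h
  obtain ⟨x, -, hx⟩ := Finset.exists_mem_notMem_of_card_lt_card h
  exact ⟨x, hx⟩

/-- Binary forms over finite fields are universal. -/
theorem exists_binary [Finite F] {α β : F} (hα : α ≠ 0) (hβ : β ≠ 0) (γ : F) :
    ∃ x y : F, α * x ^ 2 + β * y ^ 2 = γ := by
  have : Fintype F := Fintype.ofFinite F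
  by_cases h2 : ringChar F = 2
  · obtain ⟨r, hr⟩ := FiniteField.isSquare_of_char_two h2 (γ * α⁻¹)
    refine ⟨r, 0, ?_⟩
    have : r ^ 2 = γ * α⁻¹ := by rw [hr]; ring
    rw [this]
    field_simp
    ring
  · have hodd : Fintype.card F % 2 = 1 := FiniteField.odd_card_of_char_ne_two h2
    obtain ⟨a, b, hab⟩ := FiniteField.exists_root_sum_quadratic (R := F)
      (f := Polynomial.C α * Polynomial.X ^ 2)
      (g := Polynomial.C β * Polynomial.X ^ 2 - Polynomial.C γ)
      (by rw [Polynomial.degree_C_mul hα, Polynomial.degree_X_pow]; rfl)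
      (by
        rw [Polynomial.degree_sub_C]
        · rw [Polynomial.degree_C_mul hβ, Polynomial.degree_X_pow]; rfl
        · rw [Polynomial.degree_C_mul hβ, Polynomial.degree_X_pow]
          decide) hodd
    refine ⟨a, b, ?_⟩
    simp only [Polynomial.eval_mul, Polynomial.eval_C, Polynomial.eval_pow, Polynomial.eval_X,
      Polynomial.eval_sub] at hab
    linear_combination hab

/-- Parametrisation of the conic `α x² + β y² = α x₀²`. -/
theorem conic_param {α β x₀ m : F} (h : α + β * m ^ 2 ≠ 0) :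
    α * (x₀ * (α - β * m ^ 2) / (α + β * m ^ 2)) ^ 2 +
      β * (2 * α * x₀ * m / (α + β * m ^ 2)) ^ 2 = α * x₀ ^ 2 := by
  field_simp
  ring

/-- The set of the `m` with `β m² = c` has at most two elements. -/
theorem exists_sqrt_set [Finite F] (β c : F) (hβ : β ≠ 0) :
    ∃ s : Finset F, s.card ≤ 2 ∧ (∀ m, β * m ^ 2 = c → m ∈ s) ∧
      (s.Nonempty → ∃ m, β * m ^ 2 = c) := by
  classical
  by_cases h : ∃ m, β * m ^ 2 = c
  · obtain ⟨m, hm⟩ := h
    refine ⟨{m, -m}, Finset.card_le_two, fun m' hm' => ?_, fun _ => ⟨m, hm⟩⟩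
    have h1 : (m' - m) * (m' + m) = 0 := by
      have : β * ((m' - m) * (m' + m)) = 0 := by linear_combination hm' - hm
      rcases mul_eq_zero.1 this with h | h
      · exact absurd h hβ
      · exact h
    rcases mul_eq_zero.1 h1 with h | h
    · simp [sub_eq_zero.1 h]
    · simp [eq_neg_of_add_eq_zero_left h]
  · push Not at h
    exact ⟨∅, by simp, fun m hm => absurd hm (h m), fun h => absurd h (by simp)⟩

/-- Points with nonzero coordinates on a conic through `(x₀, 0)`. -/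
theorem exists_conic_aux [Finite F] (h2 : (2 : F) ≠ 0) {α β x₀ : F} (hα : α ≠ 0) (hβ : β ≠ 0)
    (hx₀ : x₀ ≠ 0)
    (hF : 7 ≤ Nat.card F ∨ (4 ≤ Nat.card F ∧ ∀ m : F, β * m ^ 2 ≠ α) ∨
      (4 ≤ Nat.card F ∧ ∀ m : F, β * m ^ 2 ≠ -α)) :
    ∃ x y : F, x ≠ 0 ∧ y ≠ 0 ∧ α * x ^ 2 + β * y ^ 2 = α * x₀ ^ 2 := by
  classical
  obtain ⟨s, hs, hs', hs''⟩ := exists_sqrt_set β α hβ
  obtain ⟨r, hr, hr', hr''⟩ := exists_sqrt_set β (-α) hβ
  have hcard : (insert 0 (s ∪ r)).card < Nat.card F := by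
    have h1 : (insert 0 (s ∪ r)).card ≤ (s ∪ r).card + 1 := Finset.card_insert_le _ _
    have h3 := Finset.card_union_le s r
    rcases hF with h | ⟨h, h'⟩ | ⟨h, h'⟩
    · omega
    · have : s = ∅ := by
        by_contra hne
        obtain ⟨m, hm⟩ := hs'' (Finset.nonempty_iff_ne_empty.2 hne)
        exact h' m hm
      rw [this, Finset.card_empty] at h3
      rw [this] at h1 ⊢
      omega
    · have : r = ∅ := by
        by_contra hne
        obtain ⟨m, hm⟩ := hr'' (Finset.nonempty_iff_ne_empty.2 hne)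
        exact h' m hm
      rw [this, Finset.card_empty] at h3
      rw [this] at h1 ⊢
      omega
  obtain ⟨m, hm⟩ := exists_avoid _ hcard
  simp only [Finset.mem_insert, Finset.mem_union, not_or] at hm
  obtain ⟨hm0, hms, hmr⟩ := hm
  have h3 : α + β * m ^ 2 ≠ 0 := fun h => hmr (hr' m (by linear_combination h))
  have h4 : α - β * m ^ 2 ≠ 0 := fun h => hms (hs' m (by linear_combination -h))
  refine ⟨x₀ * (α - β * m ^ 2) / (α + β * m ^ 2), 2 * α * x₀ * m / (α + β * m ^ 2),
    div_ne_zero (mul_ne_zero hx₀ h4) h3,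
    div_ne_zero (mul_ne_zero (mul_ne_zero (mul_ne_zero h2 hα) hx₀) hm0) h3, conic_param h3⟩

/-- In a field with `q ≥ 5` elements, `q` odd, `α x² + β y² = γ` has a solution with `x, y ≠ 0`, unless
`q = 5` and both `γ / α` and `γ / β` are squares. -/
theorem exists_conic [Finite F] (h2 : (2 : F) ≠ 0) {α β γ : F} (hα : α ≠ 0) (hβ : β ≠ 0)
    (hγ : γ ≠ 0) (hF : 4 ≤ Nat.card F)
    (hF' : 7 ≤ Nat.card F ∨ (∀ m : F, α * m ^ 2 ≠ γ) ∨ (∀ m : F, β * m ^ 2 ≠ γ)) :
    ∃ x y : F, x ≠ 0 ∧ y ≠ 0 ∧ α * x ^ 2 + β * y ^ 2 = γ := by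
  obtain ⟨x, y, hxy⟩ := exists_binary hα hβ γ
  by_cases hy : y = 0
  · subst hy
    have hx : x ≠ 0 := by
      rintro rfl
      apply hγ
      rw [← hxy]
      ring
    have hxy' : α * x ^ 2 = γ := by rw [← hxy]; ring
    have hF'' : 7 ≤ Nat.card F ∨ (4 ≤ Nat.card F ∧ ∀ m : F, β * m ^ 2 ≠ α) ∨
      (4 ≤ Nat.card F ∧ ∀ m : F, β * m ^ 2 ≠ -α) := by
      rcases hF' with h | h | h
      · exact Or.inl h
      · exact absurd hxy' (h x)
      · refine Or.inr (Or.inl ⟨hF, fun m hm => h (m * x) ?_⟩)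
        rw [← hxy', ← hm]
        ring
    obtain ⟨x', y', h1, h3, h4⟩ := exists_conic_aux h2 hα hβ hx hF''
    exact ⟨x', y', h1, h3, h4.trans hxy'⟩
  · by_cases hx : x = 0
    · subst hx
      have hxy' : β * y ^ 2 = γ := by rw [← hxy]; ring
      have hF'' : 7 ≤ Nat.card F ∨ (4 ≤ Nat.card F ∧ ∀ m : F, α * m ^ 2 ≠ β) ∨
        (4 ≤ Nat.card F ∧ ∀ m : F, α * m ^ 2 ≠ -β) := by
        rcases hF' with h | h | h
        · exact Or.inl h
        · refine Or.inr (Or.inl ⟨hF, fun m hm => h (m * y) ?_⟩)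
          rw [← hxy', ← hm]
          ring
        · exact absurd hxy' (h y)
      obtain ⟨x', y', h1, h3, h4⟩ := exists_conic_aux h2 hβ hα hy hF''
      exact ⟨y', x', h3, h1, by rw [← hxy', ← h4]; ring⟩
    · exact ⟨x, y, hx, hy, hxy⟩

/-- Among three nonzero elements of a finite field two differ by a square factor. -/
theorem exists_sq_of_three [Finite F] {a b c : F} (ha : a ≠ 0) (hb : b ≠ 0) (hc : c ≠ 0) :
    (∃ m : F, m ≠ 0 ∧ m ^ 2 * a = b) ∨ (∃ m : F, m ≠ 0 ∧ m ^ 2 * a = c) ∨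
      (∃ m : F, m ≠ 0 ∧ m ^ 2 * b = c) := by
  have : Fintype F := Fintype.ofFinite F
  have key : ∀ {u v : F}, u ≠ 0 → v ≠ 0 → IsSquare (u * v) → ∃ m : F, m ≠ 0 ∧ m ^ 2 * u = v := by
    rintro u v hu hv ⟨r, hr⟩
    have hr0 : r ≠ 0 := by
      rintro rfl
      exact mul_ne_zero hu hv (by rw [hr]; ring)
    refine ⟨r / u, div_ne_zero hr0 hu, ?_⟩
    field_simp
    linear_combination -hr
  have hsq : ∀ u v : F, u ≠ 0 → v ≠ 0 → ¬ IsSquare u → ¬ IsSquare v → IsSquare (u * v) := by
    classical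
    intro u v hu hv h1 h3
    by_cases h2 : ringChar F = 2
    · exact FiniteField.isSquare_of_char_two h2 _
    · have h4 := (quadraticChar_neg_one_iff_not_isSquare (F := F)).2 h1
      have h5 := (quadraticChar_neg_one_iff_not_isSquare (F := F)).2 h3
      have h6 : quadraticChar F (u * v) = 1 := by rw [map_mul, h4, h5]; norm_num
      exact (quadraticChar_one_iff_isSquare (mul_ne_zero hu hv)).1 h6
  by_cases h1 : IsSquare (a * b)
  · exact Or.inl (key ha hb h1)
  by_cases h3 : IsSquare (a * c)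
  · exact Or.inr (Or.inl (key ha hc h3))
  refine Or.inr (Or.inr (key hb hc ?_))
  have h4 := hsq _ _ (mul_ne_zero ha hb) (mul_ne_zero ha hc) h1 h3
  obtain ⟨r, hr⟩ := h4
  refine ⟨r / a, ?_⟩
  field_simp
  linear_combination hr

end Cfsg.Agent.H885.C2Scalar
end

-- part: H885/C2Conn
section
/-!
Connectedness of the graph "not orthogonal" on the vectors of a given nonzero norm of a nondegenerate
subspace `W` (`Conn`), of dimension at least three.
-/

set_option autoImplicit false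

namespace Cfsg.Agent.H885.C2Conn

open QuadraticMap Cfsg.Agent.LieClassical.OrthCore Cfsg.Agent.LieClassical.OrthTrans
  Cfsg.Agent.LieClassical.OrthFinite Cfsg.Agent.LieClassical.OrthSimple Cfsg.Agent.H885.RootT
  Cfsg.Agent.H885.Irr Cfsg.Agent.H885.C2Scalar

variable {F V : Type*} [Field F] [AddCommGroup V] [Module F V] {Q : QuadraticForm F V}
  {W : Submodule F V}

/-- Reachability in the graph "not orthogonal" on the vectors of norm `Q b` of `W`. -/
inductive Rch (Q : QuadraticForm F V) (W : Submodule F V) (b : V) : V → Prop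
  | base : Rch Q W b b
  | step {c d : V} : Rch Q W b c → d ∈ W → Q d = Q b → polar Q c d ≠ 0 → Rch Q W b d

/-- The vectors reachable from a nonsingular vector of `W` span `W`. -/
def Conn (Q : QuadraticForm F V) (W : Submodule F V) : Prop :=
  ∀ b ∈ W, Q b ≠ 0 → ∀ K : Submodule F V, (∀ c, Rch Q W b c → c ∈ K) → W ≤ K

theorem Rch.mem {b c : V} (h : Rch Q W b c) (hb : b ∈ W) : c ∈ W := by
  cases h with
  | base => exact hb
  | step _ h _ _ => exact h

theorem Rch.norm {b c : V} (h : Rch Q W b c) : Q c = Q b := by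
  cases h with
  | base => rfl
  | step _ _ h _ => exact h

/-- Under `Conn`, some vector of norm `Q b` is not orthogonal to a given nonzero vector of `W`. -/
theorem Conn.exists_polar_ne (h : Conn Q W) (hW : NdOn Q W) {b x : V} (hb : b ∈ W) (hQb : Q b ≠ 0)
    (hx : x ∈ W) (hx0 : x ≠ 0) : ∃ c ∈ W, Q c = Q b ∧ polar Q c x ≠ 0 := by
  by_contra hcon
  push Not at hcon
  apply hx0
  refine hW x hx fun y hy => ?_
  have h1 : W ≤ LinearMap.ker (polarBilin Q x) := h b hb hQb _ fun c hc => by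
    rw [LinearMap.mem_ker]
    have := hcon c (hc.mem hb) hc.norm
    rw [polar_comm] at this
    exact this
  exact LinearMap.mem_ker.1 (h1 hy)

/-! ### Elementary facts on nondegenerate subspaces -/

/-- The vectors of `W` orthogonal to `b`. -/
def bp (Q : QuadraticForm F V) (W : Submodule F V) (b : V) : Submodule F V :=
  W ⊓ LinearMap.ker (polarBilin Q b)

theorem mem_bp {b v : V} : v ∈ bp Q W b ↔ v ∈ W ∧ polar Q b v = 0 := Iff.rfl

theorem ndOn_bp (h2 : (2 : F) ≠ 0) (hW : NdOn Q W) {b : V} (hb : b ∈ W) (hQb : Q b ≠ 0) :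
    NdOn Q (bp Q W b) := by
  rintro w ⟨hw, hwb⟩ h
  have hwb' : polar Q b w = 0 := hwb
  refine hW w hw fun y hy => ?_
  have h2b : 2 * Q b ≠ 0 := mul_ne_zero h2 hQb
  have h1 := h (y - (polar Q b y * (2 * Q b)⁻¹) • b) ⟨W.sub_mem hy (W.smul_mem _ hb), by
    show polar Q b _ = 0
    rw [polar_sub_right, polar_smul_right, polar_self', smul_eq_mul]
    field_simp
    ring⟩
  rw [polar_sub_right, polar_smul_right, polar_comm Q w b, hwb'] at h1
  simpa using h1

/-- The vectors of `W` orthogonal to a nondegenerate pair. -/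
theorem ndOn_pair (hW : NdOn Q W) {x y : V} (hx : x ∈ W) (hy : y ∈ W)
    (hd : 4 * Q x * Q y - polar Q x y ^ 2 ≠ 0) : NdOn Q (bp Q (bp Q W x) y) := by
  rintro w ⟨⟨hw, hwx⟩, hwy⟩ h
  have hwx' : polar Q x w = 0 := hwx
  have hwy' : polar Q y w = 0 := hwy
  refine hW w hw fun v hv => ?_
  set d := 4 * Q x * Q y - polar Q x y ^ 2 with hdd
  have h1 := h (v - (d⁻¹ * (2 * Q y * polar Q x v - polar Q x y * polar Q y v)) • x -
    (d⁻¹ * (2 * Q x * polar Q y v - polar Q x y * polar Q x v)) • y)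
    ⟨⟨W.sub_mem (W.sub_mem hv (W.smul_mem _ hx)) (W.smul_mem _ hy), by
      show polar Q x _ = 0
      rw [polar_sub_right, polar_sub_right,
        polar_smul_right, polar_smul_right, polar_self', smul_eq_mul, smul_eq_mul]
      field_simp
      rw [hdd]
      ring⟩, by
      show polar Q y _ = 0
      rw [polar_sub_right, polar_sub_right,
        polar_smul_right, polar_smul_right, polar_self', smul_eq_mul, smul_eq_mul,
        polar_comm Q y x]
      field_simp
      rw [hdd]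
      ring⟩
  rw [polar_sub_right, polar_sub_right, polar_smul_right, polar_smul_right, polar_comm Q w x,
    polar_comm Q w y, hwx', hwy'] at h1
  simpa using h1

theorem exists_nonsing (hW : NdOn Q W) {x : V} (hx : x ∈ W) (hx0 : x ≠ 0) :
    ∃ u ∈ W, Q u ≠ 0 := by
  by_contra hcon
  push Not at hcon
  apply hx0
  refine hW x hx fun y hy => ?_
  rw [polar, hcon _ (W.add_mem hx hy), hcon x hx, hcon y hy]
  ring

theorem exists_partner (hW : NdOn Q W) {e : V} (he : e ∈ W) (he0 : e ≠ 0) (hQe : Q e = 0) :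
    ∃ f ∈ W, Q f = 0 ∧ polar Q e f = 1 := by
  obtain ⟨y, hy, hey⟩ := hW.exists_ne he he0
  refine ⟨(polar Q e y)⁻¹ • y - (Q ((polar Q e y)⁻¹ • y)) • e,
    W.sub_mem (W.smul_mem _ hy) (W.smul_mem _ he), ?_, ?_⟩
  · rw [sub_eq_add_neg, Q_add, QuadraticMap.map_neg, polar_neg_right, QuadraticMap.map_smul _ _ e,
      hQe, polar_smul_right, polar_smul_left, polar_comm Q y e]
    simp only [smul_eq_mul]
    rw [inv_mul_cancel₀ hey]
    ring
  · rw [polar_sub_right, polar_smul_right, polar_smul_right, polar_self_of_sing hQe, smul_zero,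
      sub_zero, smul_eq_mul, inv_mul_cancel₀ hey]

/-- A nondegenerate isotropic subspace is spanned by its singular vectors. -/
theorem le_of_sing_mem (hW : NdOn Q W) {e : V} (he : e ∈ W) (he0 : e ≠ 0) (hQe : Q e = 0)
    {K : Submodule F V} (hK : ∀ s ∈ W, Q s = 0 → s ∈ K) : W ≤ K := by
  obtain ⟨f, hf, hQf, hef⟩ := exists_partner hW he he0 hQe
  have heK := hK e he hQe
  have hfK := hK f hf hQf
  intro y hy
  set y₀ := y - polar Q f y • e - polar Q e y • f with hy₀
  have h1 : y₀ ∈ W := W.sub_mem (W.sub_mem hy (W.smul_mem _ he)) (W.smul_mem _ hf)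
  have h2 : polar Q y₀ e = 0 := by
    rw [hy₀, polar_sub_left, polar_sub_left, polar_smul_left, polar_smul_left,
      polar_self_of_sing hQe, polar_comm Q f e, hef, polar_comm Q y e]
    simp
  have h3 : polar Q y₀ f = 0 := by
    rw [hy₀, polar_sub_left, polar_sub_left, polar_smul_left, polar_smul_left,
      polar_self_of_sing hQf, hef, polar_comm Q y f]
    simp
  have h4 : y₀ + (-(Q y₀)) • e + f ∈ K := by
    refine hK _ (W.add_mem (W.add_mem h1 (W.smul_mem _ he)) hf) ?_
    rw [Q_add, Q_add, QuadraticMap.map_smul, hQe, hQf, polar_smul_right, h2, polar_add_left,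
      polar_smul_left, h3, hef]
    simp
  have h5 : y = (y₀ + (-(Q y₀)) • e + f) + (Q y₀ + polar Q f y) • e + (polar Q e y - 1) • f := by
    rw [hy₀]
    module
  rw [h5]
  exact K.add_mem (K.add_mem h4 (K.smul_mem _ heK)) (K.smul_mem _ hfK)

/-- Universality in odd characteristic. -/
theorem exists_norm_eq [Finite F] (h2 : (2 : F) ≠ 0) (hW : NdOn Q W) {b : V} (hb : b ∈ W)
    (hQb : Q b ≠ 0) (hk : 3 ≤ Module.finrank F W) (c : F) :
    ∃ u ∈ W, polar Q b u = 0 ∧ Q u = c := by
  have h1 := ndOn_bp h2 hW hb hQb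
  obtain ⟨x, hx, hx0, hbx⟩ := exists_mem_perp (Q := Q) ![b] W (by omega)
  obtain ⟨u₁, hu₁, hQu₁⟩ := exists_nonsing h1 (x := x) ⟨hx, hbx 0⟩ hx0
  have h3 := ndOn_bp h2 h1 hu₁ hQu₁
  obtain ⟨y, hy, hy0, hby⟩ := exists_mem_perp (Q := Q) ![b, u₁] W (by omega)
  obtain ⟨u₂, ⟨hu₂, hu₁u₂⟩, hQu₂⟩ := exists_nonsing h3 (x := y) ⟨⟨hy, hby 0⟩, hby 1⟩ hy0
  have hu₁u₂' : polar Q u₁ u₂ = 0 := hu₁u₂
  have hbu₁ : polar Q b u₁ = 0 := hu₁.2
  have hbu₂ : polar Q b u₂ = 0 := hu₂.2
  obtain ⟨s, t, hst⟩ := exists_binary hQu₁ hQu₂ c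
  refine ⟨s • u₁ + t • u₂, W.add_mem (W.smul_mem _ hu₁.1) (W.smul_mem _ hu₂.1), ?_, ?_⟩
  · rw [polar_add_right, polar_smul_right, polar_smul_right, hbu₁, hbu₂]
    simp
  · rw [Q_add, QuadraticMap.map_smul, QuadraticMap.map_smul, polar_smul_left, polar_smul_right,
      hu₁u₂', ← hst]
    simp only [smul_eq_mul]
    ring

/-! ### Connectedness -/

/-- A vector of `W` is in `K` when its component orthogonal to `b` is. -/
theorem le_of_bp (h2 : (2 : F) ≠ 0) {b : V} (hb : b ∈ W) (hQb : Q b ≠ 0) {K : Submodule F V}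
    (hbK : b ∈ K) (h : bp Q W b ≤ K) : W ≤ K := by
  intro z hz
  have h2b : 2 * Q b ≠ 0 := mul_ne_zero h2 hQb
  have h1 : z - (polar Q b z * (2 * Q b)⁻¹) • b ∈ K := h ⟨W.sub_mem hz (W.smul_mem _ hb), by
    show polar Q b _ = 0
    rw [polar_sub_right, polar_smul_right, polar_self', smul_eq_mul]
    field_simp
    ring⟩
  have := K.add_mem h1 (K.smul_mem (polar Q b z * (2 * Q b)⁻¹) hbK)
  rwa [sub_add_cancel] at this

theorem conn_odd_four [Finite F] (h2 : (2 : F) ≠ 0) (hW : NdOn Q W)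
    (hk : 4 ≤ Module.finrank F W) : Conn Q W := by
  intro b hb hQb K hK
  have hbK : b ∈ K := hK b Rch.base
  refine le_of_bp h2 hb hQb hbK ?_
  obtain ⟨e, he, he0, hQe, hbe⟩ := exists_sing_mem_perp (Q := Q) ![b] W (by omega)
  refine le_of_sing_mem (ndOn_bp h2 hW hb hQb) (e := e) ⟨he, hbe 0⟩ he0 hQe ?_
  rintro s ⟨hs, hbs⟩ hQs
  have hbs' : polar Q b s = 0 := hbs
  have h1 : b + s ∈ K := by
    refine hK _ (Rch.step Rch.base (W.add_mem hb hs) ?_ ?_)
    · rw [Q_add, hQs, hbs']; simp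
    · rw [polar_add_right, polar_self', hbs', add_zero]
      exact mul_ne_zero h2 hQb
  have := K.sub_mem h1 hbK
  rwa [add_sub_cancel_left] at this

theorem conn_odd_three [Finite F] (h2 : (2 : F) ≠ 0) (hF : 4 ≤ Nat.card F) (hW : NdOn Q W)
    (hk : 3 ≤ Module.finrank F W) : Conn Q W := by
  classical
  intro b hb hQb K hK
  have hbK : b ∈ K := hK b Rch.base
  refine le_of_bp h2 hb hQb hbK ?_
  obtain ⟨α, hα⟩ := exists_avoid ({0, 1, -1} : Finset F) (lt_of_le_of_lt Finset.card_le_three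
    (by omega))
  simp only [Finset.mem_insert, Finset.mem_singleton, not_or] at hα
  obtain ⟨hα0, hα1, hα2⟩ := hα
  set κ := Q b * (1 - α ^ 2) with hκ
  have hκ0 : κ ≠ 0 := by
    refine mul_ne_zero hQb fun h => ?_
    have : (1 - α) * (1 + α) = 0 := by linear_combination h
    rcases mul_eq_zero.1 this with h | h
    · exact hα1 (by linear_combination -h)
    · exact hα2 (by linear_combination h)
  have hw : ∀ w ∈ W, polar Q b w = 0 → Q w = κ → w ∈ K := by
    intro w hw hbw hQw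
    have h1 : α • b + w ∈ K := by
      refine hK _ (Rch.step Rch.base (W.add_mem (W.smul_mem _ hb) hw) ?_ ?_)
      · rw [Q_add, QuadraticMap.map_smul, polar_smul_left, hbw, hQw, hκ]
        simp only [smul_eq_mul]
        ring
      · rw [polar_add_right, polar_smul_right, polar_self', hbw, add_zero]
        exact mul_ne_zero hα0 (mul_ne_zero h2 hQb)
    have := K.sub_mem h1 (K.smul_mem α hbK)
    rwa [add_sub_cancel_left] at this
  obtain ⟨u₀, hu₀, hbu₀, hQu₀⟩ := exists_norm_eq h2 hW hb hQb hk κ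
  have hu₀K := hw u₀ hu₀ hbu₀ hQu₀
  have hns : ∀ y ∈ W, polar Q b y = 0 → Q y ≠ 0 → polar Q y u₀ ≠ 0 → y ∈ K := by
    intro y hy hby hQy hyu
    have h1 : refl Q y hQy u₀ ∈ K := by
      refine hw _ ?_ ?_ ?_
      · rw [refl_apply]
        exact W.sub_mem hu₀ (W.smul_mem _ hy)
      · rw [refl_apply, polar_sub_right, polar_smul_right, hbu₀, hby]
        simp
      · rw [mem_O.1 (refl_mem_O hQy), hQu₀]
    have h3 := K.sub_mem hu₀K h1
    rw [refl_apply, sub_sub_cancel] at h3
    exact (K.smul_mem_iff (mul_ne_zero (inv_ne_zero hQy) hyu)).1 h3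
  rintro y ⟨hy, hby⟩
  have hby' : polar Q b y = 0 := hby
  obtain ⟨t, ht1, ht2⟩ : ∃ t : F, Q (y + t • u₀) ≠ 0 ∧ polar Q (y + t • u₀) u₀ ≠ 0 := by
    have h2κ : 2 * κ ≠ 0 := mul_ne_zero h2 hκ0
    obtain ⟨c, hc⟩ : ∃ c, 2 * κ * c = 1 := ⟨(2 * κ)⁻¹, mul_inv_cancel₀ h2κ⟩
    obtain ⟨s, hs, hs', -⟩ := exists_sqrt_set κ (-(Q y) + polar Q y u₀ ^ 2 * (κ * c ^ 2)) hκ0
    obtain ⟨t, ht⟩ := exists_avoid (insert 0 s) (lt_of_le_of_lt (Finset.card_insert_le _ _)
      (by omega))
    simp only [Finset.mem_insert, not_or] at ht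
    obtain ⟨ht0, hts⟩ := ht
    refine ⟨t - polar Q y u₀ * c, fun h => hts (hs' t ?_), fun h => ht0 ?_⟩
    · rw [Q_add, QuadraticMap.map_smul, polar_smul_right, hQu₀] at h
      simp only [smul_eq_mul] at h
      linear_combination h + (t * polar Q y u₀ - polar Q y u₀ ^ 2 * c) * hc
    · rw [polar_add_left, polar_smul_left, polar_self', hQu₀, smul_eq_mul] at h
      have : 2 * κ * t = 0 := by linear_combination h + polar Q y u₀ * hc
      rcases mul_eq_zero.1 this with h | h
      · exact absurd h h2κ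
      · exact h
  have h1 := hns _ (W.add_mem hy (W.smul_mem t hu₀)) (by
    rw [polar_add_right, polar_smul_right, hbu₀, hby']; simp) ht1 ht2
  have := K.sub_mem h1 (K.smul_mem t hu₀K)
  rwa [add_sub_cancel_right] at this

/-- The complement of the hyperplane `b^⊥` spans. -/
theorem le_of_not_perp (hW : NdOn Q W) {b : V} (hb : b ∈ W) (hb0 : b ≠ 0) {K : Submodule F V}
    (h : ∀ z ∈ W, polar Q b z ≠ 0 → z ∈ K) : W ≤ K := by
  intro z hz
  by_cases hbz : polar Q b z = 0
  · obtain ⟨y, hy, hby⟩ := hW.exists_ne hb hb0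
    have h1 := h (z + y) (W.add_mem hz hy) (by rw [polar_add_right, hbz, zero_add]; exact hby)
    have := K.sub_mem h1 (h y hy hby)
    rwa [add_sub_cancel_right] at this
  · exact h z hz hbz

theorem ne_zero_of_Q {b : V} (hQb : Q b ≠ 0) : b ≠ 0 := by
  rintro rfl
  exact hQb (map_zero Q)

theorem conn_even [Finite F] (h2 : (2 : F) = 0) (hF : 3 ≤ Nat.card F) (hW : NdOn Q W) :
    Conn Q W := by
  classical
  intro b hb hQb K hK
  have hbK : b ∈ K := hK b Rch.base
  refine le_of_not_perp hW hb (ne_zero_of_Q hQb) fun z hz hbz => ?_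
  have hns : ∀ z ∈ W, polar Q b z ≠ 0 → Q z ≠ 0 → z ∈ K := by
    intro z hz hbz hQz
    have : Fintype F := Fintype.ofFinite F
    have : CharP F 2 := CharTwo.of_one_ne_zero_of_two_eq_zero one_ne_zero h2
    obtain ⟨r, hr⟩ := FiniteField.isSquare_of_char_two (ringChar.eq F 2) (Q b * (Q z)⁻¹)
    have hr0 : r ≠ 0 := by
      rintro rfl
      rw [mul_zero] at hr
      exact mul_ne_zero hQb (inv_ne_zero hQz) hr
    have h1 : r • z ∈ K := by
      refine hK _ (Rch.step Rch.base (W.smul_mem _ hz) ?_ ?_)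
      · rw [QuadraticMap.map_smul, ← hr, smul_eq_mul, mul_assoc, inv_mul_cancel₀ hQz, mul_one]
      · rw [polar_smul_right]
        exact mul_ne_zero hr0 hbz
    exact (K.smul_mem_iff hr0).1 h1
  by_cases hQz : Q z = 0
  · obtain ⟨t, ht⟩ := exists_avoid ({0, polar Q b z * (Q b)⁻¹} : Finset F)
      (lt_of_le_of_lt Finset.card_le_two (by omega))
    simp only [Finset.mem_insert, Finset.mem_singleton, not_or] at ht
    obtain ⟨ht0, ht1⟩ := ht
    have h1 : z + t • b ∈ K := by
      refine hns _ (W.add_mem hz (W.smul_mem _ hb)) ?_ ?_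
      · rw [polar_add_right, polar_smul_right, polar_self', h2]
        simpa using hbz
      · rw [Q_add, hQz, QuadraticMap.map_smul, polar_smul_right, polar_comm Q z b]
        simp only [smul_eq_mul]
        intro h
        have h3 : t * (t * Q b + polar Q b z) = 0 := by linear_combination h
        rcases mul_eq_zero.1 h3 with h | h
        · exact ht0 h
        · apply ht1
          field_simp
          linear_combination h - polar Q b z * h2
    have := K.sub_mem h1 (K.smul_mem t hbK)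
    rwa [add_sub_cancel_right] at this
  · exact hns z hz hbz hQz

theorem eq_one_of_card_two (hF : Nat.card F = 2) {a : F} (ha : a ≠ 0) : a = 1 := by
  classical
  have : Finite F := Nat.finite_of_card_ne_zero (by omega)
  have : Fintype F := Fintype.ofFinite F
  by_contra h
  have h3 : ({0, 1, a} : Finset F).card = 3 := by
    rw [Finset.card_eq_three]
    exact ⟨0, 1, a, zero_ne_one, Ne.symm ha, Ne.symm h, rfl⟩
  have h4 := Finset.card_le_univ ({0, 1, a} : Finset F)
  rw [h3, ← Nat.card_eq_fintype_card, hF] at h4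
  omega

theorem two_eq_zero_of_card_two (hF : Nat.card F = 2) : (2 : F) = 0 := by
  by_contra h
  have h1 := eq_one_of_card_two hF h
  exact one_ne_zero (α := F) (by linear_combination h1)

theorem conn_two (hF : Nat.card F = 2) (hW : NdOn Q W) (hk : 4 ≤ Module.finrank F W)
    (hex : ¬ (Module.finrank F W = 4 ∧ ∃ U ≤ W, Module.finrank F U = 2 ∧ ∀ u ∈ U, Q u = 0)) :
    Conn Q W := by
  have h2 := two_eq_zero_of_card_two hF
  have hone : ∀ {a : F}, a ≠ 0 → a = 1 := fun ha => eq_one_of_card_two hF ha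
  intro b hb hQb K hK
  have hbK : b ∈ K := hK b Rch.base
  refine le_of_not_perp hW hb (ne_zero_of_Q hQb) fun z hz hbz => ?_
  by_cases hQz : Q z = 0
  · have hb1 : Q b = 1 := hone hQb
    have hbz1 : polar Q b z = 1 := hone hbz
    have hW₀ : NdOn Q (bp Q (bp Q W b) z) := by
      refine ndOn_pair hW hb hz ?_
      rw [hQz, mul_zero, zero_sub, hbz1]
      simp
    obtain ⟨w, w', ⟨⟨hw, hbw⟩, hzw⟩, ⟨⟨hw', hbw'⟩, hzw'⟩, hQw, hQw', hww'⟩ :
        ∃ w w' : V, w ∈ bp Q (bp Q W b) z ∧ w' ∈ bp Q (bp Q W b) z ∧ Q w = 1 ∧ Q w' = 1 ∧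
          polar Q w w' = 1 := by
      obtain ⟨x, hx, hx0, hxp⟩ := exists_mem_perp (Q := Q) ![b, z] W (by omega)
      obtain ⟨w, hw, hQw⟩ := exists_nonsing hW₀ (x := x) ⟨⟨hx, hxp 0⟩, hxp 1⟩ hx0
      obtain ⟨z₀, hz₀, hwz₀⟩ := hW₀.exists_ne hw (ne_zero_of_Q hQw)
      by_cases hQz₀ : Q z₀ = 0
      · by_cases hk4 : Module.finrank F W = 4
        · exfalso
          apply hex
          have hzz₀ : polar Q z z₀ = 0 := hz₀.2
          have hbz₀ : polar Q b z₀ = 0 := hz₀.1.2
          have hz₀0 : z₀ ≠ 0 := by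
            rintro rfl
            exact hwz₀ (polar_zero_right _ _)
          refine ⟨hk4, Submodule.span F (Set.range ![z, z₀]), ?_, ?_, ?_⟩
          · rw [Submodule.span_le]
            rintro _ ⟨i, rfl⟩
            fin_cases i
            · exact hz
            · exact hz₀.1.1
          · have hli : LinearIndependent F ![z, z₀] := by
              rw [LinearIndependent.pair_iff]
              intro s t hst
              have hs : s = 0 := by
                have : polar Q b (s • z + t • z₀) = 0 := by rw [hst, polar_zero_right]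
                rw [polar_add_right, polar_smul_right, polar_smul_right, hbz₀, hbz1] at this
                simpa using this
              refine ⟨hs, ?_⟩
              rw [hs, zero_smul, zero_add] at hst
              rcases smul_eq_zero.1 hst with h | h
              · exact h
              · exact absurd h hz₀0
            rw [finrank_span_eq_card hli, Fintype.card_fin]
          · intro u hu
            obtain ⟨c, hc⟩ := (Submodule.mem_span_range_iff_exists_fun F).1 hu
            rw [← hc, Fin.sum_univ_two]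
            show Q (c 0 • z + c 1 • z₀) = 0
            rw [Q_add, QuadraticMap.map_smul, QuadraticMap.map_smul, polar_smul_left,
              polar_smul_right, hQz, hQz₀, hzz₀]
            simp
        · have hW₁ : NdOn Q (bp Q (bp Q (bp Q (bp Q W b) z) w) z₀) := by
            refine ndOn_pair hW₀ hw hz₀ ?_
            rw [hQz₀, mul_zero, zero_sub, hone hwz₀]
            simp
          obtain ⟨y, hy, hy0, hyp⟩ := exists_mem_perp (Q := Q) ![b, z, w, z₀] W (by omega)
          obtain ⟨c, ⟨⟨hc, hwc⟩, hz₀c⟩, hQc⟩ :=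
            exists_nonsing hW₁ (x := y) ⟨⟨⟨⟨hy, hyp 0⟩, hyp 1⟩, hyp 2⟩, hyp 3⟩ hy0
          have hwc' : polar Q w c = 0 := hwc
          have hz₀c' : polar Q z₀ c = 0 := hz₀c
          refine ⟨w, z₀ + c, hw, Submodule.add_mem _ hz₀ hc, hone hQw, ?_, ?_⟩
          · rw [Q_add, hQz₀, hone hQc, hz₀c']; simp
          · rw [polar_add_right, hone hwz₀, hwc', add_zero]
      · exact ⟨w, z₀, hw, hz₀, hone hQw, hone hQz₀, hone hwz₀⟩
    have hbw1 : polar Q b w = 0 := hbw
    have hzw1 : polar Q z w = 0 := hzw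
    have hbw1' : polar Q b w' = 0 := hbw'
    have hzw1' : polar Q z w' = 0 := hzw'
    have h3 : Rch Q W b (z + w') := by
      refine Rch.step Rch.base (W.add_mem hz hw') ?_ ?_
      · rw [Q_add, hQz, hQw', hzw1', hb1]; simp
      · rw [polar_add_right, hbz1, hbw1', add_zero]; exact one_ne_zero
    have h4 : Rch Q W b w := by
      refine Rch.step h3 hw (by rw [hQw, hb1]) ?_
      rw [polar_add_left, hzw1, polar_comm Q w' w, hww', zero_add]
      exact one_ne_zero
    have h5 : Rch Q W b (z + w) := by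
      refine Rch.step Rch.base (W.add_mem hz hw) ?_ ?_
      · rw [Q_add, hQz, hQw, hzw1, hb1]; simp
      · rw [polar_add_right, hbz1, hbw1, add_zero]; exact one_ne_zero
    have := K.sub_mem (hK _ h5) (hK _ h4)
    rwa [add_sub_cancel_right] at this
  · exact hK _ (Rch.step Rch.base hz (by rw [hone hQz, hone hQb]) hbz)

/-- **Connectedness**, all cases. -/
theorem conn [Finite F] (hW : NdOn Q W) (hk : 3 ≤ Module.finrank F W)
    (h3 : ¬ (Module.finrank F W = 3 ∧ Nat.card F = 3)) (h3' : Module.finrank F W = 3 → (2 : F) ≠ 0)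
    (hex : ¬ (Module.finrank F W = 4 ∧ Nat.card F = 2 ∧
      ∃ U ≤ W, Module.finrank F U = 2 ∧ ∀ u ∈ U, Q u = 0)) : Conn Q W := by
  have hF1 : 1 < Nat.card F := Finite.one_lt_card
  by_cases h2 : (2 : F) = 0
  · have hk4 : 4 ≤ Module.finrank F W := by
      rcases Nat.lt_or_ge 3 (Module.finrank F W) with h | h
      · exact h
      · exact absurd h2 (h3' (by omega))
    by_cases hF : Nat.card F = 2
    · exact conn_two hF hW hk4 fun ⟨h4, h5⟩ => hex ⟨h4, hF, h5⟩
    · exact conn_even h2 (by omega) hW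
  · by_cases hk4 : 4 ≤ Module.finrank F W
    · exact conn_odd_four h2 hW hk4
    · have hk3 : Module.finrank F W = 3 := by omega
      refine conn_odd_three h2 ?_ hW hk
      have hne3 : Nat.card F ≠ 3 := fun h => h3 ⟨hk3, h⟩
      have hne2 : Nat.card F ≠ 2 := fun h => h2 (two_eq_zero_of_card_two h)
      omega

end Cfsg.Agent.H885.C2Conn
end

-- part: H885/C2Rigid
section
/-!
Rigid overgroups `M` of the stabiliser of an orthogonal decomposition `D` into isometric nondegenerate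
subspaces of dimension `k ≥ 3`: they permute the members of `D`.
-/

set_option autoImplicit false
set_option linter.unusedSectionVars false

namespace Cfsg.Agent.H885.C2Rigid

open QuadraticMap Cfsg.Agent.LieClassical.OrthCore Cfsg.Agent.LieClassical.OrthTrans
  Cfsg.Agent.LieClassical.OrthFinite Cfsg.Agent.LieClassical.OrthSimple Cfsg.Agent.H883.Bridge
  Cfsg.Agent.H885.RootT Cfsg.Agent.H885.Irr Cfsg.Agent.H885.C2Scalar Cfsg.Agent.H885.C2Conn
  Cfsg.Agent.H886.Decomp Cfsg.Agent.H886.Rigid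

variable {F V : Type*} [Field F] [AddCommGroup V] [Module F V] {Q : QuadraticForm F V} {t : ℕ}
  {D : Fin t → Submodule F V} {p : Fin t → V →ₗ[F] V} {M : Subgroup (V ≃ₗ[F] V)} {k : ℕ}

/-- Overgroups of the stabiliser of an orthogonal decomposition, `k ≥ 3`. -/
structure Ctx (Q : QuadraticForm F V) (D : Fin t → Submodule F V) (p : Fin t → V →ₗ[F] V)
    (M : Subgroup (V ≃ₗ[F] V)) (k : ℕ) : Prop where
  dec : Dec Q D p
  good : Good Q
  three : 3 ≤ k
  fin : ∀ i, Module.finrank F (D i) = k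
  iso : ∀ i j, ∃ e : D i ≃ₗ[F] D j, ∀ x, Q (e x : V) = Q (x : V)
  conn : ∀ i, Conn Q (D i)
  le : stabFamily D ⊓ E Q ≤ M
  le_E : M ≤ E Q

/-- `r_a r_b ∈ M` with `a` in a member and `Q b = Q a` forces `b` in a member. -/
def Rigid (Q : QuadraticForm F V) (D : Fin t → Submodule F V) (M : Subgroup (V ≃ₗ[F] V)) : Prop :=
  ∀ i, ∀ a ∈ D i, ∀ (ha : Q a ≠ 0) (b : V) (hb : Q b ≠ 0), Q b = Q a →
    refl Q a ha * refl Q b hb ∈ M → ∃ j, b ∈ D j

/-- Nonsingular vectors of a nondegenerate subspace orthogonal to few vectors. -/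
theorem exists_nonsing_perp [FiniteDimensional F V] {W : Submodule F V} (hW : NdOn Q W) {n : ℕ}
    (u : Fin n → V) (hn : 2 * n < Module.finrank F W) :
    ∃ b ∈ W, (∀ i, polar Q (u i) b = 0) ∧ Q b ≠ 0 := by
  by_contra hcon
  push Not at hcon
  let f : W →ₗ[F] (Fin n → F) := LinearMap.pi fun i => (polarBilin Q (u i)).comp W.subtype
  have h1 := LinearMap.finrank_range_add_finrank_ker f
  have h2 : Module.finrank F (LinearMap.range f) ≤ n := by
    refine le_trans (Submodule.finrank_le _) ?_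
    rw [Module.finrank_fin_fun]
  have hQ0 : ∀ w ∈ LinearMap.ker f, Q (w : V) = 0 := by
    intro w hw
    refine hcon w w.2 fun i => ?_
    have := congrFun (LinearMap.mem_ker.1 hw) i
    simpa [f] using this
  have hnd : Nondeg (Cfsg.Agent.H883.Sub.res Q W) := Cfsg.Agent.H883.Sub.NondegOn.res hW
  have h3 := Cfsg.Agent.H883.Sub.finrank_perp hnd (LinearMap.ker f)
  have h4 : LinearMap.ker f ≤ Cfsg.Agent.H883.Sub.perp (Cfsg.Agent.H883.Sub.res Q W)
      (LinearMap.ker f) := by
    intro w hw w' hw'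
    show polar Q (w' : V) (w : V) = 0
    have h5 := hQ0 _ ((LinearMap.ker f).add_mem hw' hw)
    rw [polar]
    rw [hQ0 w hw, hQ0 w' hw']
    have h6 : Q ((w' : V) + (w : V)) = 0 := h5
    rw [h6]
    ring
  have h5 := Submodule.finrank_mono h4
  omega

theorem Q_eq_sum (h : Dec Q D p) (x : V) : Q x = ∑ i, Q (p i x) := by
  have key : ∀ s : Finset (Fin t), Q (∑ i ∈ s, p i x) = ∑ i ∈ s, Q (p i x) := by
    classical
    intro s
    induction s using Finset.induction_on with
    | empty => simp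
    | insert a s ha ih =>
      rw [Finset.sum_insert ha, Finset.sum_insert ha, Q_add, ih]
      have : polar Q (p a x) (∑ i ∈ s, p i x) = 0 := by
        have h1 : (polarBilin Q (p a x)) (∑ i ∈ s, p i x) = 0 := by
          rw [map_sum]
          refine Finset.sum_eq_zero fun i hi => ?_
          exact h.orth a i (fun he => ha (he ▸ hi)) _ (h.mem a x) _ (h.mem i x)
        exact h1
      rw [this, add_zero]
  have h1 := key Finset.univ
  rwa [h.sum] at h1

namespace Ctx

variable [FiniteDimensional F V]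

theorem le_O (c : Ctx Q D p M k) : M ≤ O Q := c.le_E.trans E_le_O

theorem nd (c : Ctx Q D p M k) (i : Fin t) : NdOn Q (D i) := c.dec.nondegOn c.good.nondeg i

theorem exists_norm_mem (c : Ctx Q D p M k) {i : Fin t} {a : V} (ha : a ∈ D i) (j : Fin t) :
    ∃ b ∈ D j, Q b = Q a := by
  obtain ⟨e, he⟩ := c.iso i j
  exact ⟨e ⟨a, ha⟩, (e ⟨a, ha⟩).2, he ⟨a, ha⟩⟩

theorem refl_mem (c : Ctx Q D p M k) {i j : Fin t} {a b : V} (ha : a ∈ D i) (hb : b ∈ D j)
    (hQa : Q a ≠ 0) (hQb : Q b ≠ 0) (hab : Q a = Q b) : refl Q a hQa * refl Q b hQb ∈ M :=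
  c.le (c.dec.refl_mul_refl_mem c.good ha hb hQa hQb hab)

/-- **The principle of rigid overgroups.** -/
theorem mem_stabFamily (c : Ctx Q D p M k) (hR : Rigid Q D M) {i j : Fin t} {a : V}
    (ha : a ∈ D i) (hQa : Q a ≠ 0) {m : V ≃ₗ[F] V} (hm : m ∈ M) (hma : m a ∈ D j) :
    m ∈ stabFamily D := by
  have hk := c.three
  refine c.dec.mem_stabFamily_of_forall (k := k) (by omega) c.fin fun l => ?_
  obtain ⟨b₀, hb₀, hQb₀⟩ := c.exists_norm_mem ha l
  have hmO := c.le_O hm
  have key : ∀ b ∈ D l, Q b = Q a → ∃ j', m b ∈ D j' := by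
    intro b hbl hQb
    have hQb0 : Q b ≠ 0 := by rw [hQb]; exact hQa
    have h1 := c.refl_mem ha hbl hQa hQb0 hQb.symm
    have ha' : Q (m a) ≠ 0 := by rw [mem_O.1 hmO]; exact hQa
    have hb' : Q (m b) ≠ 0 := by rw [mem_O.1 hmO]; exact hQb0
    have h2 := M.mul_mem (M.mul_mem hm h1) (M.inv_mem hm)
    rw [conj_refl_mul_refl hmO hQa hQb0 ha' hb'] at h2
    exact hR j _ hma ha' _ hb' (by rw [mem_O.1 hmO, mem_O.1 hmO, hQb]) h2
  obtain ⟨j₀, hj₀⟩ := key b₀ hb₀ hQb₀
  refine ⟨j₀, fun x hx => ?_⟩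
  refine c.conn l b₀ hb₀ (by rw [hQb₀]; exact hQa) ((D j₀).comap (m : V →ₗ[F] V)) ?_ hx
  intro y hy
  induction hy with
  | base => exact hj₀
  | @step c' d hc hd hQd hcd ih =>
    obtain ⟨j', hj'⟩ := key d hd (by rw [hQd, hQb₀])
    by_cases he : j₀ = j'
    · subst he
      exact hj'
    · exfalso
      rw [← polar_map hmO] at hcd
      exact hcd (c.dec.orth j₀ j' he _ ih _ hj')

/-- The principle for a conjugate decomposition. -/
theorem mem_stabFamily_conj (c : Ctx Q D p M k) (hR : Rigid Q D M) {g : V ≃ₗ[F] V} (hg : g ∈ M)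
    {i j : Fin t} {x : V} (hx : x ∈ (D i).map (g : V →ₗ[F] V)) (hQx : Q x ≠ 0) {m : V ≃ₗ[F] V}
    (hm : m ∈ M) (hmx : m x ∈ (D j).map (g : V →ₗ[F] V)) :
    m ∈ stabFamily (fun i => (D i).map (g : V →ₗ[F] V)) := by
  obtain ⟨a, ha, rfl⟩ := hx
  obtain ⟨b, hb, hbm⟩ := hmx
  have hQx' : Q (g a) ≠ 0 := hQx
  rw [mem_O.1 (c.le_O hg) a] at hQx'
  refine Cfsg.Agent.H886.Decomp.mem_stabFamily_map ?_
  refine c.mem_stabFamily hR (j := j) ha hQx' (M.mul_mem (M.mul_mem (M.inv_mem hg) hm) hg) ?_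
  have e : (g⁻¹ * m * g) a = b := by
    show g.symm (m (g a)) = b
    rw [LinearEquiv.symm_apply_eq]
    exact hbm.symm
  rw [e]
  exact hb

/-- Members of `D` and of `g D` have no common nonsingular vector. -/
theorem sing_of_mem_of_mem (c : Ctx Q D p M k) (hR : Rigid Q D M) {g : V ≃ₗ[F] V} (hg : g ∈ M)
    (hgD : g ∉ stabFamily D) {i j : Fin t} {z : V} (hz : z ∈ D j) (hgz : g z ∈ D i) :
    Q (g z) = 0 := by
  by_contra hQ
  rw [mem_O.1 (c.le_O hg)] at hQ
  exact hgD (c.mem_stabFamily hR hz hQ hg hgz)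

/-- The product of the reflections in the images of two vectors of the same norm. -/
theorem refl_map_mem (c : Ctx Q D p M k) {g : V ≃ₗ[F] V} (hg : g ∈ M) {i : Fin t} {v v' : V}
    (hv : v ∈ D i) (hv' : v' ∈ D i) (hQv : Q (g v) ≠ 0) (hQv' : Q (g v') ≠ 0) (hvv' : Q v = Q v') :
    refl Q (g v) hQv * refl Q (g v') hQv' ∈ M := by
  have hgO := c.le_O hg
  have h1 : Q v ≠ 0 := by rwa [mem_O.1 hgO] at hQv
  have h2 : Q v' ≠ 0 := by rwa [mem_O.1 hgO] at hQv'
  rw [← conj_refl_mul_refl hgO h1 h2 hQv hQv']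
  exact M.mul_mem (M.mul_mem hg (c.refl_mem hv hv' h1 h2 hvv')) (M.inv_mem hg)

theorem not_perp_pair (c : Ctx Q D p M k) (hR : Rigid Q D M) {g : V ≃ₗ[F] V} (hg : g ∈ M)
    (hgD : g ∉ stabFamily D) {i j : Fin t} {v v' b : V} (hv : v ∈ D i) (hv' : v' ∈ D i)
    (hQv : Q v ≠ 0) (hvv' : Q v = Q v') (hind : v ∉ Submodule.span F {v'}) (hb : b ∈ D j)
    (hvb : polar Q (g v) b = 0) (hv'b : polar Q (g v') b = 0) : Q b = 0 := by
  by_contra hQb
  have hk := c.three
  have hgO := c.le_O hg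
  have hQgv : Q (g v) ≠ 0 := by rw [mem_O.1 hgO]; exact hQv
  have hQgv' : Q (g v') ≠ 0 := by rw [mem_O.1 hgO, ← hvv']; exact hQv
  set u := refl Q (g v) hQgv * refl Q (g v') hQgv' with hu
  have huM : u ∈ M := c.refl_map_mem hg hv hv' hQgv hQgv' hvv'
  have hu_apply : ∀ x, u x = refl Q (g v) hQgv (refl Q (g v') hQgv' x) := fun x => rfl
  have hfix : ∀ x, polar Q (g v) x = 0 → polar Q (g v') x = 0 → u x = x := by
    intro x h1 h2
    rw [hu_apply, refl_apply, refl_apply, h2]
    simp [h1]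
  have hub : u b = b := hfix b hvb hv'b
  have hstab : u ∈ stabFamily D :=
    c.mem_stabFamily hR hb hQb huM (j := j) (by rw [hub]; exact hb)
  obtain ⟨σ, hσ⟩ := hstab
  -- `u` preserves every member
  have hpres : ∀ l, ∀ x ∈ D l, u x ∈ D l := by
    intro l
    obtain ⟨w, hw, hw0, hwp⟩ := exists_mem_perp (Q := Q) ![g v, g v'] (D l) (by
      rw [c.fin]; omega)
    have h1 : u w = w := hfix w (hwp 0) (hwp 1)
    have h2 : u w ∈ D (σ l) := by rw [← hσ l]; exact Submodule.mem_map_of_mem hw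
    rw [h1] at h2
    have h3 : l = σ l := by
      by_contra hne
      exact hw0 (c.dec.eq_zero_of_mem hne hw h2)
    intro x hx
    have h4 : u x ∈ D (σ l) := by rw [← hσ l]; exact Submodule.mem_map_of_mem hx
    rwa [← h3] at h4
  -- the displacement is singular
  have hdisp : ∀ x, ∃ z ∈ D i, u x - x = g z := by
    intro x
    refine ⟨-(((Q (g v'))⁻¹ * polar Q (g v') x) • v') -
      ((Q (g v))⁻¹ * polar Q (g v) (refl Q (g v') hQgv' x)) • v,
      (D i).sub_mem ((D i).neg_mem ((D i).smul_mem _ hv')) ((D i).smul_mem _ hv), ?_⟩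
    obtain ⟨y, hy⟩ : ∃ y, y = refl Q (g v') hQgv' x := ⟨_, rfl⟩
    have h1 : y - x = -(((Q (g v'))⁻¹ * polar Q (g v') x) • g v') := by
      rw [hy, refl_apply]
      abel
    rw [hu_apply, ← hy, refl_apply hQgv, map_sub, map_neg, map_smul, map_smul, sub_right_comm, h1]
  have hsing : ∀ x, Q (u x - x) = 0 := by
    intro x
    rw [Q_eq_sum c.dec]
    refine Finset.sum_eq_zero fun l _ => ?_
    have h1 : p l (u x - x) = u (p l x) - p l x := by
      rw [map_sub]
      congr 1
      have h2 : u x = ∑ m, u (p m x) := by rw [← map_sum, c.dec.sum]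
      rw [h2, map_sum, Finset.sum_eq_single l]
      · exact c.dec.self l _ (hpres l _ (c.dec.mem l x))
      · intro m _ hm
        exact c.dec.other l m hm.symm _ (hpres m _ (c.dec.mem m x))
      · intro h
        exact absurd (Finset.mem_univ l) h
    rw [h1]
    obtain ⟨z, hz, hz'⟩ := hdisp (p l x)
    rw [hz']
    refine c.sing_of_mem_of_mem hR hg hgD hz (i := l) ?_
    rw [← hz']
    exact (D l).sub_mem (hpres l _ (c.dec.mem l x)) (c.dec.mem l x)
  have hind' : g v ∉ Submodule.span F {g v'} := by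
    intro h
    obtain ⟨a, ha⟩ := Submodule.mem_span_singleton.1 h
    rw [← map_smul] at ha
    exact hind (Submodule.mem_span_singleton.2 ⟨a, g.injective ha⟩)
  obtain ⟨x, hx1, hx2⟩ := exists_sep_span c.good.nondeg hind'
  have hx3 : polar Q (g v') x = 0 := hx1 _ (Submodule.mem_span_singleton_self _)
  have h1 := hsing x
  have h2 : u x - x = -((Q (g v))⁻¹ • g v) := by
    rw [hu_apply, refl_apply hQgv' x, hx3, mul_zero, zero_smul, sub_zero, refl_apply, hx2, mul_one]
    abel
  rw [h2, QuadraticMap.map_neg, QuadraticMap.map_smul, smul_eq_mul] at h1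
  exact mul_ne_zero (mul_ne_zero (inv_ne_zero hQgv) (inv_ne_zero hQgv)) hQgv h1

/-- The projections `g D_i → D_j` are injective. -/
theorem proj_injective (c : Ctx Q D p M k) (hR : Rigid Q D M) {g : V ≃ₗ[F] V} (hg : g ∈ M)
    (hgD : g ∉ stabFamily D) (i j : Fin t) {z : V} (hz : z ∈ D i) (hpz : p j (g z) = 0) :
    z = 0 := by
  by_contra hz0
  have hk := c.three
  -- two independent vectors of the same norm with the same `j`-component up to scalars
  obtain ⟨v, v', hv, hv', hQv, hvv', hind, w, hw1, hw2⟩ : ∃ v v' : V, v ∈ D i ∧ v' ∈ D i ∧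
      Q v ≠ 0 ∧ Q v = Q v' ∧ v ∉ Submodule.span F {v'} ∧ ∃ w : V,
        (∀ b ∈ D j, polar Q w b = 0 → polar Q (g v) b = 0) ∧
        (∀ b ∈ D j, polar Q w b = 0 → polar Q (g v') b = 0) := by
    by_cases hQz : Q z = 0
    · obtain ⟨v, hv, hzv, hQv⟩ := exists_nonsing_perp (c.nd i) ![z] (by rw [c.fin]; omega)
      have hzv' : polar Q z v = 0 := hzv 0
      refine ⟨v, v + z, hv, (D i).add_mem hv hz, hQv, ?_, ?_, g v, fun b _ h => h, ?_⟩
      · rw [Q_add, hQz, polar_comm Q v z, hzv']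
        simp
      · intro h
        obtain ⟨a, ha⟩ := Submodule.mem_span_singleton.1 h
        rw [smul_add] at ha
        have ha0 : a ≠ 0 := by
          rintro rfl
          rw [zero_smul, zero_smul, add_zero] at ha
          rw [← ha] at hQv
          exact hQv (map_zero Q)
        have h1 : z = (a⁻¹ - 1) • v := by
          have h2 : a • z = (1 - a) • v := by
            rw [sub_smul, one_smul]
            exact eq_sub_of_add_eq' ha
          have h3 : a⁻¹ • (a • z) = a⁻¹ • ((1 - a) • v) := by rw [h2]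
          rw [smul_smul, smul_smul, inv_mul_cancel₀ ha0, one_smul, mul_sub, mul_one,
            inv_mul_cancel₀ ha0] at h3
          exact h3
        have h4 : a⁻¹ - 1 = 0 := by
          rw [h1, QuadraticMap.map_smul, smul_eq_mul] at hQz
          rcases mul_eq_zero.1 hQz with h | h
          · exact mul_self_eq_zero.1 h
          · exact absurd h hQv
        rw [h4, zero_smul] at h1
        exact hz0 h1
      · intro b hb hvb
        have h1 : polar Q (g z) b = 0 := by
          rw [c.dec.polar_left j (g z) hb, hpz, polar_zero_left]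
        rw [map_add, polar_add_left, hvb, h1, add_zero]
    · obtain ⟨v', hv', hQv', hind⟩ : ∃ v' ∈ D i, Q v' = Q z ∧ v' ∉ Submodule.span F {z} := by
        by_contra hcon
        push Not at hcon
        have h1 := c.conn i z hz hQz (Submodule.span F {z}) fun y hy =>
          hcon y (hy.mem hz) hy.norm
        have h2 := Submodule.finrank_mono h1
        rw [c.fin, finrank_span_singleton hz0] at h2
        omega
      refine ⟨v', z, hv', hz, by rw [hQv']; exact hQz, hQv', hind, g v', fun b _ h => h, ?_⟩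
      intro b hb _
      rw [c.dec.polar_left j (g z) hb, hpz, polar_zero_left]
  obtain ⟨b, hb, hwb, hQb⟩ := exists_nonsing_perp (c.nd j) ![w] (by rw [c.fin]; omega)
  have hwb' : polar Q w b = 0 := hwb 0
  exact hQb (c.not_perp_pair hR hg hgD hv hv' hQv hvv' hind hb (hw1 b hb hwb') (hw2 b hb hwb'))

/-- **Rigid overgroups permute the members**: `k ≥ 5`. -/
theorem rigid_of_five (c : Ctx Q D p M k) (hR : Rigid Q D M) (hk : 5 ≤ k) : M ≤ stabFamily D := by
  intro g hg
  by_contra hgD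
  have ht : 0 < t := by
    by_contra h0
    have h0' : t = 0 := by omega
    subst h0'
    apply hgD
    exact c.dec.mem_stabFamily_of_forall (k := k) (by omega) c.fin fun i => i.elim0
  let i : Fin t := ⟨0, ht⟩
  obtain ⟨v, hv, -, hQv⟩ := exists_nonsing_perp (c.nd i) (n := 0) ![] (by rw [c.fin]; omega)
  obtain ⟨v', hv', hQv', hind⟩ : ∃ v' ∈ D i, Q v' = Q v ∧ v' ∉ Submodule.span F {v} := by
    by_contra hcon
    push Not at hcon
    have h1 := c.conn i v hv hQv (Submodule.span F {v}) fun y hy => hcon y (hy.mem hv) hy.norm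
    have h2 := Submodule.finrank_mono h1
    rw [c.fin, finrank_span_singleton (ne_zero_of_Q hQv)] at h2
    omega
  obtain ⟨b, hb, hbp, hQb⟩ := exists_nonsing_perp (c.nd i) ![g v', g v] (by rw [c.fin]; omega)
  exact hQb (c.not_perp_pair hR hg hgD hv' hv (by rw [hQv']; exact hQv) hQv' hind hb (hbp 0)
    (hbp 1))

/-- **Rigid overgroups permute the members**: `t ≥ 3`. -/
theorem rigid_of_three [Finite F] (c : Ctx Q D p M k) (hR : Rigid Q D M) (ht : 3 ≤ t) :
    M ≤ stabFamily D := by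
  intro g hg
  by_contra hgD
  have hk := c.three
  have hgO := c.le_O hg
  let i₀ : Fin t := ⟨0, by omega⟩
  obtain ⟨v, hv, -, hQv⟩ := exists_nonsing_perp (c.nd i₀) (n := 0) ![] (by rw [c.fin]; omega)
  have hex : ∀ j, ∃ a ∈ D j, polar Q (g v) a = 0 ∧ Q a ≠ 0 := by
    intro j
    obtain ⟨a, ha, h1, h2⟩ := exists_nonsing_perp (c.nd j) ![g v] (by rw [c.fin]; omega)
    exact ⟨a, ha, h1 0, h2⟩
  choose a ha hva hQa using hex
  -- two of them have the same norm up to squares
  obtain ⟨i, j, l, hij, hil, hjl, b, hb, hvb, hQb, hQab⟩ : ∃ i j l : Fin t, i ≠ j ∧ i ≠ l ∧ j ≠ l ∧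
      ∃ b ∈ D j, polar Q (g v) b = 0 ∧ Q b ≠ 0 ∧ Q (a i) = Q b := by
    let i0 : Fin t := ⟨0, by omega⟩
    let i1 : Fin t := ⟨1, by omega⟩
    let i2 : Fin t := ⟨2, by omega⟩
    have h01 : i0 ≠ i1 := by simp [i0, i1, Fin.ext_iff]
    have h02 : i0 ≠ i2 := by simp [i0, i2, Fin.ext_iff]
    have h12 : i1 ≠ i2 := by simp [i1, i2, Fin.ext_iff]
    have key : ∀ i j l : Fin t, i ≠ j → i ≠ l → j ≠ l →
        (∃ m : F, m ≠ 0 ∧ m ^ 2 * Q (a i) = Q (a j)) → ∃ i j l : Fin t, i ≠ j ∧ i ≠ l ∧ j ≠ l ∧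
        ∃ b ∈ D j, polar Q (g v) b = 0 ∧ Q b ≠ 0 ∧ Q (a i) = Q b := by
      rintro i j l hij hil hjl ⟨m, hm, hma⟩
      refine ⟨j, i, l, hij.symm, hjl, hil, m • a i, (D i).smul_mem _ (ha i), ?_, ?_, ?_⟩
      · rw [polar_smul_right, hva, smul_zero]
      · rw [QuadraticMap.map_smul, smul_eq_mul]
        exact mul_ne_zero (mul_ne_zero hm hm) (hQa i)
      · rw [QuadraticMap.map_smul, smul_eq_mul, ← hma]
        ring
    rcases exists_sq_of_three (hQa i0) (hQa i1) (hQa i2) with h | h | h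
    · exact key i0 i1 i2 h01 h02 h12 h
    · exact key i0 i2 i1 h02 h01 h12.symm h
    · exact key i1 i2 i0 h12 h01.symm h02.symm h
  set u := refl Q (a i) (hQa i) * refl Q b hQb with hu
  have huM : u ∈ M := c.refl_mem (ha i) hb (hQa i) hQb hQab
  have hu_apply : ∀ x, u x = refl Q (a i) (hQa i) (refl Q b hQb x) := fun x => rfl
  have huv : u (g v) = g v := by
    rw [hu_apply, refl_apply hQb, polar_comm Q b, hvb, mul_zero, zero_smul, sub_zero, refl_apply,
      polar_comm Q (a i), hva, mul_zero, zero_smul, sub_zero]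
  have hgv : g v ∈ (D i₀).map (g : V →ₗ[F] V) := Submodule.mem_map_of_mem hv
  have hQgv : Q (g v) ≠ 0 := by rw [mem_O.1 hgO]; exact hQv
  have hstab := c.mem_stabFamily_conj hR hg hgv hQgv huM (j := i₀) (by rw [huv]; exact hgv)
  obtain ⟨σ, hσ⟩ := hstab
  have hσ₀ : σ i₀ = i₀ := by
    by_contra hne
    have h1 : u (g v) ∈ (D (σ i₀)).map (g : V →ₗ[F] V) := by
      have h2 := hσ i₀
      simp only at h2
      rw [← h2]
      exact Submodule.mem_map_of_mem hgv
    rw [huv] at h1
    obtain ⟨v₁, hv₁, h2⟩ := h1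
    have h3 : v₁ = v := g.injective h2
    rw [h3] at hv₁
    exact ne_zero_of_Q hQv (c.dec.eq_zero_of_mem hne hv₁ hv)
  have hpres : ∀ y ∈ D i₀, ∃ z ∈ D i₀, u (g y) = g z := by
    intro y hy
    have h1 : u (g y) ∈ (D (σ i₀)).map (g : V →ₗ[F] V) := by
      have h2 := hσ i₀
      simp only at h2
      rw [← h2]
      exact Submodule.mem_map_of_mem (Submodule.mem_map_of_mem hy)
    rw [hσ₀] at h1
    obtain ⟨z, hz, h2⟩ := h1
    exact ⟨z, hz, h2.symm⟩
  -- `u` is the identity on `g D_{i₀}`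
  have hdisp : ∀ x, x - u x = ((Q b)⁻¹ * polar Q b x) • b + ((Q (a i))⁻¹ * polar Q (a i) x) • a i := by
    intro x
    rw [hu_apply, refl_apply hQb, refl_apply (hQa i), polar_sub_right, polar_smul_right,
      c.dec.orth i j hij _ (ha i) _ hb, smul_zero, sub_zero]
    abel
  have hid : ∀ y ∈ D i₀, u (g y) = g y := by
    intro y hy
    obtain ⟨z, hz, hyz⟩ := hpres y hy
    have h1 : p l (g (y - z)) = 0 := by
      rw [map_sub, ← hyz, hdisp, map_add, map_smul, map_smul, c.dec.other l j hjl.symm b hb,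
        c.dec.other l i hil.symm _ (ha i)]
      simp
    have h2 := c.proj_injective hR hg hgD i₀ l ((D i₀).sub_mem hy hz) h1
    rw [hyz, sub_eq_zero.1 h2]
  have hperp : ∀ y ∈ D i₀, polar Q (a i) (g y) = 0 := by
    intro y hy
    have h1 := hdisp (g y)
    rw [hid y hy, sub_self] at h1
    have h2 := congrArg (p i) h1
    rw [map_zero, map_add, map_smul, map_smul, c.dec.other i j hij b hb, smul_zero, zero_add,
      c.dec.self i _ (ha i)] at h2
    rcases smul_eq_zero.1 h2.symm with h | h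
    · rcases mul_eq_zero.1 h with h | h
      · exact absurd (inv_eq_zero.1 h) (hQa i)
      · exact h
    · exact absurd h (ne_zero_of_Q (hQa i))
  -- surjectivity of the projection
  have hsurj : (D i₀).map ((p i) ∘ₗ (g : V →ₗ[F] V)) = D i := by
    refine Submodule.eq_of_le_of_finrank_eq ?_ ?_
    · rintro _ ⟨y, -, rfl⟩
      exact c.dec.mem i _
    · have hinj : Function.Injective (((p i) ∘ₗ (g : V →ₗ[F] V)).comp (D i₀).subtype) := by
        rw [← LinearMap.ker_eq_bot, eq_bot_iff]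
        intro y hy
        rw [LinearMap.mem_ker] at hy
        exact (Submodule.mem_bot F).2
          (Subtype.ext (c.proj_injective hR hg hgD i₀ i y.2 hy))
      have h1 : (D i₀).map ((p i) ∘ₗ (g : V →ₗ[F] V)) =
          LinearMap.range (((p i) ∘ₗ (g : V →ₗ[F] V)).comp (D i₀).subtype) := by
        rw [LinearMap.range_comp, Submodule.range_subtype]
      rw [h1, LinearMap.finrank_range_of_inj hinj, c.fin, c.fin]
  apply ne_zero_of_Q (hQa i)
  refine c.nd i _ (ha i) fun y hy => ?_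
  rw [← hsurj] at hy
  obtain ⟨x, hx, rfl⟩ := hy
  have h1 := hperp x hx
  rwa [c.dec.polar_right i (g x) (ha i)] at h1

end Ctx

end Cfsg.Agent.H885.C2Rigid
end

-- part: H885/C2Trans
section
/-!
Overgroups `M` of the stabiliser of an orthogonal decomposition `D`: block transpositions, and the criterion
`E_le_of_mem_T`: if `T_s(M)` (`s` singular in a member) contains a vector outside that member, then `M = E Q`.
-/

set_option autoImplicit false
set_option linter.unusedSectionVars false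

namespace Cfsg.Agent.H885.C2Trans

open QuadraticMap Cfsg.Agent.LieClassical.OrthCore Cfsg.Agent.LieClassical.OrthTrans
  Cfsg.Agent.LieClassical.OrthFinite Cfsg.Agent.LieClassical.OrthSimple Cfsg.Agent.H883.Bridge
  Cfsg.Agent.H885.RootT Cfsg.Agent.H885.Irr Cfsg.Agent.H885.C2Scalar Cfsg.Agent.H885.C2Conn
  Cfsg.Agent.H886.Decomp Cfsg.Agent.H886.Rigid Cfsg.Agent.H885.C2Rigid

variable {F V : Type*} [Field F] [AddCommGroup V] [Module F V] {Q : QuadraticForm F V} {t : ℕ}
  {D : Fin t → Submodule F V} {p : Fin t → V →ₗ[F] V} {M : Subgroup (V ≃ₗ[F] V)} {k : ℕ}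

/-! ### Block transpositions -/

/-- The linear map exchanging `D j` and `D l` by `e`. -/
noncomputable def swapMap (h : Dec Q D p) (j l : Fin t) (e : D j ≃ₗ[F] D l) : V →ₗ[F] V :=
  LinearMap.id - p j - p l +
    (D l).subtype ∘ₗ (e : D j →ₗ[F] D l) ∘ₗ (p j).codRestrict (D j) (h.mem j) +
    (D j).subtype ∘ₗ (e.symm : D l →ₗ[F] D j) ∘ₗ (p l).codRestrict (D l) (h.mem l)

theorem swapMap_apply (h : Dec Q D p) (j l : Fin t) (e : D j ≃ₗ[F] D l) (x : V) :
    swapMap h j l e x = x - p j x - p l x + (e ⟨p j x, h.mem j x⟩ : V) +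
      (e.symm ⟨p l x, h.mem l x⟩ : V) := rfl

theorem proj_proj_ne (h : Dec Q D p) {i j : Fin t} (hij : i ≠ j) (x : V) : p i (p j x) = 0 :=
  h.other i j hij _ (h.mem j x)

theorem proj_swapMap (h : Dec Q D p) {j l : Fin t} (hjl : j ≠ l) (e : D j ≃ₗ[F] D l) (x : V)
    {m : Fin t} (hmj : m ≠ j) (hml : m ≠ l) : p m (swapMap h j l e x) = p m x := by
  rw [swapMap_apply, map_add, map_add, map_sub, map_sub, proj_proj_ne h hmj, proj_proj_ne h hml,
    h.other m l hml _ (e _).2, h.other m j hmj _ (e.symm _).2]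
  simp

theorem proj_swapMap_left (h : Dec Q D p) {j l : Fin t} (hjl : j ≠ l) (e : D j ≃ₗ[F] D l)
    (x : V) : p j (swapMap h j l e x) = (e.symm ⟨p l x, h.mem l x⟩ : V) := by
  rw [swapMap_apply, map_add, map_add, map_sub, map_sub, proj_proj_ne h hjl,
    h.self j _ (h.mem j x), h.other j l hjl _ (e _).2, h.self j _ (e.symm _).2]
  simp

theorem proj_swapMap_right (h : Dec Q D p) {j l : Fin t} (hjl : j ≠ l) (e : D j ≃ₗ[F] D l)
    (x : V) : p l (swapMap h j l e x) = (e ⟨p j x, h.mem j x⟩ : V) := by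
  rw [swapMap_apply, map_add, map_add, map_sub, map_sub, proj_proj_ne h hjl.symm,
    h.self l _ (h.mem l x), h.self l _ (e _).2, h.other l j hjl.symm _ (e.symm _).2]
  simp

theorem swapMap_swapMap (h : Dec Q D p) {j l : Fin t} (hjl : j ≠ l) (e : D j ≃ₗ[F] D l) (x : V) :
    swapMap h j l e (swapMap h j l e x) = x := by
  apply h.ext
  intro m
  by_cases hmj : m = j
  · subst hmj
    rw [proj_swapMap_left h hjl]
    have : (⟨p l (swapMap h m l e x), h.mem l _⟩ : D l) = e ⟨p m x, h.mem m x⟩ :=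
      Subtype.ext (proj_swapMap_right h hjl e x)
    rw [this, LinearEquiv.symm_apply_apply]
  · by_cases hml : m = l
    · subst hml
      rw [proj_swapMap_right h hjl]
      have : (⟨p j (swapMap h j m e x), h.mem j _⟩ : D j) = e.symm ⟨p m x, h.mem m x⟩ :=
        Subtype.ext (proj_swapMap_left h hjl e x)
      rw [this, LinearEquiv.apply_symm_apply]
    · rw [proj_swapMap h hjl e _ hmj hml, proj_swapMap h hjl e _ hmj hml]

/-- The block transposition as a linear equivalence. -/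
noncomputable def swapEquiv (h : Dec Q D p) {j l : Fin t} (hjl : j ≠ l) (e : D j ≃ₗ[F] D l) :
    V ≃ₗ[F] V :=
  LinearEquiv.ofInvolutive (swapMap h j l e) (swapMap_swapMap h hjl e)

theorem swapEquiv_apply (h : Dec Q D p) {j l : Fin t} (hjl : j ≠ l) (e : D j ≃ₗ[F] D l) (x : V) :
    swapEquiv h hjl e x = swapMap h j l e x := rfl

theorem swapEquiv_mem_O (h : Dec Q D p) {j l : Fin t} (hjl : j ≠ l) (e : D j ≃ₗ[F] D l)
    (he : ∀ x, Q (e x : V) = Q (x : V)) : swapEquiv h hjl e ∈ O Q := by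
  classical
  rw [mem_O]
  intro x
  rw [swapEquiv_apply, Q_eq_sum h, Q_eq_sum h x,
    ← Equiv.sum_comp (Equiv.swap j l) (fun m => Q (p m x))]
  refine Finset.sum_congr rfl fun m _ => ?_
  by_cases hmj : m = j
  · subst hmj
    rw [proj_swapMap_left h hjl, Equiv.swap_apply_left]
    have := he (e.symm ⟨p l x, h.mem l x⟩)
    rw [LinearEquiv.apply_symm_apply] at this
    exact this.symm
  · by_cases hml : m = l
    · subst hml
      rw [proj_swapMap_right h hjl, Equiv.swap_apply_right]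
      exact he _
    · rw [proj_swapMap h hjl e _ hmj hml, Equiv.swap_apply_of_ne_of_ne hmj hml]

theorem swapEquiv_left (h : Dec Q D p) {j l : Fin t} (hjl : j ≠ l) (e : D j ≃ₗ[F] D l) {x : V}
    (hx : x ∈ D j) : swapEquiv h hjl e x = (e ⟨x, hx⟩ : V) := by
  rw [swapEquiv_apply]
  apply h.ext
  intro m
  by_cases hmj : m = j
  · subst hmj
    rw [proj_swapMap_left h hjl, h.other m l hjl _ (e _).2]
    have : (⟨p l x, h.mem l x⟩ : D l) = 0 := Subtype.ext (h.other l m hjl.symm x hx)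
    rw [this, map_zero]
    rfl
  · by_cases hml : m = l
    · subst hml
      rw [proj_swapMap_right h hjl, h.self m _ (e _).2]
      congr 2
      exact Subtype.ext (h.self j x hx)
    · rw [proj_swapMap h hjl e _ hmj hml, h.other m j hmj x hx, h.other m l hml _ (e _).2]

theorem swapEquiv_right (h : Dec Q D p) {j l : Fin t} (hjl : j ≠ l) (e : D j ≃ₗ[F] D l) {x : V}
    (hx : x ∈ D l) : swapEquiv h hjl e x = (e.symm ⟨x, hx⟩ : V) := by
  rw [swapEquiv_apply]
  apply h.ext
  intro m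
  by_cases hmj : m = j
  · subst hmj
    rw [proj_swapMap_left h hjl, h.self m _ (e.symm _).2]
    congr 2
    exact Subtype.ext (h.self l x hx)
  · by_cases hml : m = l
    · subst hml
      rw [proj_swapMap_right h hjl, h.other m j hjl.symm _ (e.symm _).2]
      have : (⟨p j x, h.mem j x⟩ : D j) = 0 := Subtype.ext (h.other j m hjl x hx)
      rw [this, map_zero]
      rfl
    · rw [proj_swapMap h hjl e _ hmj hml, h.other m l hml x hx, h.other m j hmj _ (e.symm _).2]

theorem swapEquiv_other (h : Dec Q D p) {j l : Fin t} (hjl : j ≠ l) (e : D j ≃ₗ[F] D l) {x : V}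
    {i : Fin t} (hij : i ≠ j) (hil : i ≠ l) (hx : x ∈ D i) : swapEquiv h hjl e x = x := by
  rw [swapEquiv_apply]
  apply h.ext
  intro m
  by_cases hmj : m = j
  · subst hmj
    rw [proj_swapMap_left h hjl, h.other m i hij.symm x hx]
    have : (⟨p l x, h.mem l x⟩ : D l) = 0 := Subtype.ext (h.other l i hil.symm x hx)
    rw [this, map_zero]
    rfl
  · by_cases hml : m = l
    · subst hml
      rw [proj_swapMap_right h hjl, h.other m i hil.symm x hx]
      have : (⟨p j x, h.mem j x⟩ : D j) = 0 := Subtype.ext (h.other j i hij.symm x hx)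
      rw [this, map_zero]
      rfl
    · rw [proj_swapMap h hjl e _ hmj hml]

theorem swapEquiv_mem_stabFamily [FiniteDimensional F V] (h : Dec Q D p) (hk : 0 < k)
    (hfin : ∀ i, Module.finrank F (D i) = k) {j l : Fin t} (hjl : j ≠ l) (e : D j ≃ₗ[F] D l) :
    swapEquiv h hjl e ∈ stabFamily D := by
  refine h.mem_stabFamily_of_forall hk hfin fun i => ?_
  by_cases hij : i = j
  · subst hij
    exact ⟨l, fun x hx => by rw [swapEquiv_left h hjl e hx]; exact (e _).2⟩
  · by_cases hil : i = l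
    · subst hil
      exact ⟨j, fun x hx => by rw [swapEquiv_right h hjl e hx]; exact (e.symm _).2⟩
    · exact ⟨i, fun x hx => by rw [swapEquiv_other h hjl e hij hil hx]; exact hx⟩

/-- **Block transpositions in `stabFamily D ⊓ E Q`**: an element mapping `D j` onto `D l` and fixing all members
`D i`, `i ≠ j, l`, pointwise. -/
theorem exists_swap [FiniteDimensional F V] (h : Dec Q D p) (hG : Good Q) (hk : 0 < k)
    (hfin : ∀ i, Module.finrank F (D i) = k) {j l : Fin t} (hjl : j ≠ l) {e : D j ≃ₗ[F] D l}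
    (he : ∀ x, Q (e x : V) = Q (x : V)) {x y : V} (hx : x ∈ D l) (hy : y ∈ D l)
    (hxy : Hyp Q x y) :
    ∃ τ ∈ stabFamily D ⊓ E Q, (D j).map (τ : V →ₗ[F] V) = D l ∧
      ∀ i, i ≠ j → i ≠ l → ∀ z ∈ D i, τ z = z := by
  obtain ⟨r, hr, hrE, -⟩ := Cfsg.Agent.H883.Sub.exists_correct hG hx hy hxy
    (swapEquiv_mem_O h hjl e he)
  have hrD : r ∈ stabFamily D := by
    have : Subgroup.closure {s : V ≃ₗ[F] V | ∃ (v : V) (hv : Q v ≠ 0), v ∈ D l ∧
        s = refl Q v hv} ≤ stabFamily D := by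
      rw [Subgroup.closure_le]
      rintro _ ⟨v, hv, hvl, rfl⟩
      exact h.refl_mem_stabFamily hvl hv
    exact this hr
  have hrl : r ∈ stab (D l) := by
    have : Subgroup.closure {s : V ≃ₗ[F] V | ∃ (v : V) (hv : Q v ≠ 0), v ∈ D l ∧
        s = refl Q v hv} ≤ stab (D l) := by
      rw [Subgroup.closure_le]
      rintro _ ⟨v, hv, hvl, rfl⟩
      exact mem_stab_of_le fun w hw => h.refl_mem hvl hv hw
    exact this hr
  refine ⟨r * swapEquiv h hjl e, ⟨(stabFamily D).mul_mem hrD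
    (swapEquiv_mem_stabFamily h hk hfin hjl e), hrE⟩, ?_, ?_⟩
  · refine Submodule.eq_of_le_of_finrank_eq ?_ ?_
    · rintro _ ⟨z, hz, rfl⟩
      show r (swapEquiv h hjl e z) ∈ D l
      rw [swapEquiv_left h hjl e hz]
      exact (mem_stab.1 hrl _).1 (e _).2
    · rw [LinearEquiv.finrank_map_eq, hfin, hfin]
  · intro i hij hil z hz
    show r (swapEquiv h hjl e z) = z
    rw [swapEquiv_other h hjl e hij hil hz]
    exact Cfsg.Agent.H883.Sub.refl_closure_fix hr fun y hy => h.orth l i hil.symm y hy z hz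

/-! ### Siegel transformations of a member -/

theorem siegel_mem_stabFamily [FiniteDimensional F V] (h : Dec Q D p) (hk : 0 < k)
    (hfin : ∀ i, Module.finrank F (D i) = k) {i : Fin t} {s y : V} (hs : s ∈ D i) (hy : y ∈ D i)
    (hQs : Q s = 0) (hsy : polar Q s y = 0) : siegel Q s y hQs hsy ∈ stabFamily D ⊓ E Q := by
  refine ⟨h.mem_stabFamily_of_forall hk hfin fun l => ⟨l, fun x hx => ?_⟩, siegel_mem_E _ _⟩
  by_cases hil : i = l
  · subst hil
    rw [siegel_apply]
    exact (D i).sub_mem ((D i).sub_mem ((D i).add_mem hx ((D i).smul_mem _ hy))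
      ((D i).smul_mem _ hs)) ((D i).smul_mem _ hs)
  · rw [siegel_apply, h.orth i l hil s hs x hx, h.orth i l hil y hy x hx]
    simpa using hx

variable [FiniteDimensional F V]

theorem mem_T_self (c : Ctx Q D p M k) {i : Fin t} {s y : V} (hs : s ∈ D i) (hy : y ∈ D i)
    (hQs : Q s = 0) (hsy : polar Q s y = 0) : y ∈ T M Q s hQs := by
  have hk := c.three
  intro a
  have h1 : polar Q s (a • y) = 0 := by rw [polar_smul_right, hsy, smul_zero]
  exact ⟨hQs, h1, c.le (siegel_mem_stabFamily c.dec (by omega) c.fin hs ((D i).smul_mem a hy)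
    hQs h1)⟩

theorem exists_hyp_mem [Finite F] (c : Ctx Q D p M k) (l : Fin t) :
    ∃ x y, x ∈ D l ∧ y ∈ D l ∧ Hyp Q x y := by
  have hk := c.three
  obtain ⟨x, hx, hx0, hQx, -⟩ := exists_sing_mem_perp (Q := Q) ![] (D l) (by
    rw [c.fin]; omega)
  obtain ⟨y, hy, hQy, hxy⟩ := exists_partner (c.nd l) hx hx0 hQx
  exact ⟨x, y, hx, hy, ⟨hQx, hQy, hxy⟩⟩

theorem exists_swap_mem [Finite F] (c : Ctx Q D p M k) {j l : Fin t} (hjl : j ≠ l) :
    ∃ τ ∈ M, (D j).map (τ : V →ₗ[F] V) = D l ∧ ∀ i, i ≠ j → i ≠ l → ∀ z ∈ D i, τ z = z := by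
  have hk := c.three
  obtain ⟨x, y, hx, hy, hxy⟩ := exists_hyp_mem c l
  obtain ⟨e, he⟩ := c.iso j l
  obtain ⟨τ, hτ, h1, h2⟩ := exists_swap c.dec c.good (k := k) (by omega) c.fin hjl he hx hy hxy
  exact ⟨τ, c.le hτ, h1, h2⟩

/-- `T_s(M)` contains `D j` if it contains a vector with nonzero `j`-component. -/
theorem le_T_of_mem (c : Ctx Q D p M k) {i j : Fin t} (hij : i ≠ j) {s x : V} (hs : s ∈ D i)
    (hQs : Q s = 0) (hx : x ∈ T M Q s hQs) (hxj : p j x ≠ 0) : D j ≤ T M Q s hQs := by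
  have hk := c.three
  have hMO := c.le_O
  obtain ⟨v', hv', hxv', hQv'⟩ := exists_nonsing_perp (c.nd j) ![x] (by rw [c.fin]; omega)
  have hxv'0 : polar Q x v' = 0 := hxv' 0
  obtain ⟨v, hv, hQv, hvx⟩ := (c.conn j).exists_polar_ne (c.nd j) hv' hQv' (c.dec.mem j x) hxj
  have hvx' : polar Q v x ≠ 0 := by rwa [c.dec.polar_right j x hv]
  have hQv0 : Q v ≠ 0 := by rw [hQv]; exact hQv'
  have hsfix : ∀ y ∈ D j, ∀ hy : Q y ≠ 0, refl Q y hy s = s := by
    intro y hy hQy
    rw [refl_apply, c.dec.orth j i hij.symm y hy s hs]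
    simp
  have hinv : ∀ y z : V, y ∈ D j → z ∈ D j → ∀ (hy : Q y ≠ 0) (hz : Q z ≠ 0), Q y = Q z →
      ∀ w ∈ T M Q s hQs, refl Q y hy (refl Q z hz w) ∈ T M Q s hQs := by
    intro y z hy hz hQy hQz hyz w hw
    have hm := c.refl_mem hy hz hQy hQz hyz
    have e1 : (refl Q y hQy * refl Q z hQz) s = s := by
      show refl Q y hQy (refl Q z hQz s) = s
      rw [hsfix z hz hQz, hsfix y hy hQy]
    have h1 := T_conj hm (hMO hm) hw (by rw [e1]; exact hQs)
    have h2 : (refl Q y hQy * refl Q z hQz) w ∈ T M Q s hQs := by simpa only [e1] using h1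
    exact h2
  have hvT : v ∈ T M Q s hQs := by
    have h1 := hinv v v' hv hv' hQv0 hQv' hQv x hx
    have h2 : refl Q v' hQv' x = x := by
      rw [refl_apply, polar_comm Q v' x, hxv'0]
      simp
    rw [h2, refl_apply] at h1
    have h3 := Submodule.sub_mem _ hx h1
    rw [sub_sub_cancel] at h3
    exact ((T M Q s hQs).smul_mem_iff (mul_ne_zero (inv_ne_zero hQv0) hvx')).1 h3
  refine c.conn j v hv hQv0 _ fun y hy => ?_
  induction hy with
  | base => exact hvT
  | @step c' d hc hd hQd hcd ih =>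
    have hc' := hc.mem hv
    have hQc : Q c' = Q v := hc.norm
    have hQc0 : Q c' ≠ 0 := by rw [hQc]; exact hQv0
    have hQd0 : Q d ≠ 0 := by rw [hQd]; exact hQv0
    have h1 := hinv d c' hd hc' hQd0 hQc0 (by rw [hQd, hQc]) c' ih
    have h2 : refl Q c' hQc0 c' = -c' := by
      rw [refl_apply, polar_self']
      have : (Q c')⁻¹ * (2 * Q c') = 2 := by field_simp
      rw [this, two_smul]
      abel
    rw [h2, map_neg, refl_apply] at h1
    have h3 := Submodule.add_mem _ ih h1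
    have h4 : c' + -(c' - ((Q d)⁻¹ * polar Q d c') • d) = ((Q d)⁻¹ * polar Q d c') • d := by abel
    rw [h4] at h3
    refine ((T M Q s hQs).smul_mem_iff (mul_ne_zero (inv_ne_zero hQd0) ?_)).1 h3
    rw [polar_comm]
    exact hcd

/-- **The criterion.** -/
theorem E_le_of_mem_T [Finite F] (c : Ctx Q D p M k) {i : Fin t} {s x : V} (hs : s ∈ D i)
    (hs0 : s ≠ 0) (hQs : Q s = 0) (hx : x ∈ T M Q s hQs) (hxi : x ∉ D i) : E Q ≤ M := by
  have hk := c.three
  have hMO := c.le_O
  obtain ⟨j, hji, hxj⟩ := c.dec.exists_ne hxi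
  have hj : D j ≤ T M Q s hQs := le_T_of_mem c hji.symm hs hQs hx hxj
  have hall : ∀ l, l ≠ i → D l ≤ T M Q s hQs := by
    intro l hli
    by_cases hjl : j = l
    · subst hjl
      exact hj
    · obtain ⟨τ, hτ, hτ1, hτ2⟩ := exists_swap_mem c hjl
      have hτs : τ s = s := hτ2 i hji.symm hli.symm s hs
      rw [← hτ1]
      rintro _ ⟨z, hz, rfl⟩
      have h1 := T_conj hτ (hMO hτ) (hj hz) (by rw [hτs]; exact hQs)
      show τ z ∈ T M Q s hQs
      simpa only [hτs] using h1
  have hfull : Full M Q s := by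
    refine full_of_T_eq (hx := hQs) fun w hw => ?_
    rw [← c.dec.sum w]
    refine Submodule.sum_mem _ fun l _ => ?_
    by_cases hli : l = i
    · subst hli
      refine mem_T_self c hs (c.dec.mem l w) hQs ?_
      rw [← c.dec.polar_right l w hs]
      exact hw
    · exact hall l hli (c.dec.mem l w)
  obtain ⟨s', hs', hQs', hss'⟩ := exists_partner (c.nd i) hs hs0 hQs
  have hQd : Q (s - s') = -1 := by
    rw [sub_eq_add_neg, Q_add, QuadraticMap.map_neg, polar_neg_right, hQs, hQs', hss']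
    simp
  have hd : s - s' ∈ D i := (D i).sub_mem hs hs'
  have hQd0 : Q (s - s') ≠ 0 := by rw [hQd]; exact neg_ne_zero.2 one_ne_zero
  obtain ⟨b, hb, hQb⟩ := c.exists_norm_mem hd j
  have hQb0 : Q b ≠ 0 := by rw [hQb]; exact hQd0
  have hm := c.refl_mem hd hb hQd0 hQb0 hQb.symm
  have e1 : (refl Q (s - s') hQd0 * refl Q b hQb0) s = s' := by
    show refl Q (s - s') hQd0 (refl Q b hQb0 s) = s'
    have e0 : refl Q b hQb0 s = s := by
      rw [refl_apply, c.dec.orth j i hji b hb s hs]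
      simp
    rw [e0, refl_apply, hQd, polar_sub_left, polar_self_of_sing hQs, polar_comm Q s' s, hss']
    have : ((-1 : F))⁻¹ * (0 - 1) = 1 := by
      rw [zero_sub]
      exact inv_mul_cancel₀ (neg_ne_zero.2 one_ne_zero)
    rw [this, one_smul]
    abel
  have hfull' : Full M Q s' := by
    rw [← e1]
    exact hfull.conj hm (hMO hm)
  exact E_le_of_full c.good hMO hfull hfull' (by rw [hss']; exact one_ne_zero)

end Cfsg.Agent.H885.C2Trans
end

-- part: H885/C2NonRigid
section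
/-!
Non-rigid overgroups of the stabiliser of an orthogonal decomposition into isometric nondegenerate
subspaces of dimension `k ≥ 4`: they contain `E Q`.
-/

set_option autoImplicit false
set_option linter.unusedSectionVars false

namespace Cfsg.Agent.H885.C2NonRigid

open QuadraticMap Cfsg.Agent.LieClassical.OrthCore Cfsg.Agent.LieClassical.OrthTrans
  Cfsg.Agent.LieClassical.OrthFinite Cfsg.Agent.LieClassical.OrthSimple Cfsg.Agent.H883.Bridge
  Cfsg.Agent.H885.RootT Cfsg.Agent.H885.Irr Cfsg.Agent.H885.C2Scalar Cfsg.Agent.H885.C2Conn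
  Cfsg.Agent.H886.Decomp Cfsg.Agent.H885.C2Rigid Cfsg.Agent.H885.C2Trans
open Cfsg.Agent.H886.Rigid (conj_refl_mul_refl)

variable {F V : Type*} [Field F] [AddCommGroup V] [Module F V] {Q : QuadraticForm F V} {t : ℕ}
  {D : Fin t → Submodule F V} {p : Fin t → V →ₗ[F] V} {M : Subgroup (V ≃ₗ[F] V)} {k : ℕ}

/-! ### The relation `r_a r_b ∈ M` -/

/-- `r_a r_b ∈ M`. -/
def RM (M : Subgroup (V ≃ₗ[F] V)) (Q : QuadraticForm F V) (a b : V) : Prop :=
  ∃ (ha : Q a ≠ 0) (hb : Q b ≠ 0), refl Q a ha * refl Q b hb ∈ M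

theorem RM.left {a b : V} (h : RM M Q a b) : Q a ≠ 0 := h.1

theorem RM.right {a b : V} (h : RM M Q a b) : Q b ≠ 0 := h.2.1

theorem RM.mem {a b : V} (h : RM M Q a b) (ha : Q a ≠ 0) (hb : Q b ≠ 0) :
    refl Q a ha * refl Q b hb ∈ M := h.2.2

theorem refl_mul_cancel {a : V} (ha : Q a ≠ 0) (g : V ≃ₗ[F] V) :
    refl Q a ha * (refl Q a ha * g) = g := by
  rw [← mul_assoc, refl_mul_self, one_mul]

theorem refl_inv_eq {a : V} (ha : Q a ≠ 0) : (refl Q a ha)⁻¹ = refl Q a ha :=
  inv_eq_of_mul_eq_one_right (refl_mul_self ha)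

theorem RM.symm {a b : V} (h : RM M Q a b) : RM M Q b a := by
  obtain ⟨ha, hb, h⟩ := h
  refine ⟨hb, ha, ?_⟩
  have h1 := M.inv_mem h
  rwa [mul_inv_rev, refl_inv_eq, refl_inv_eq] at h1

theorem RM.trans {a b c : V} (h : RM M Q a b) (h' : RM M Q b c) : RM M Q a c := by
  obtain ⟨ha, hb, h⟩ := h
  obtain ⟨_, hc, h'⟩ := h'
  refine ⟨ha, hc, ?_⟩
  have h1 := M.mul_mem h h'
  rwa [mul_assoc, refl_mul_cancel] at h1

theorem RM.conj {a b : V} (h : RM M Q a b) {g : V ≃ₗ[F] V} (hg : g ∈ M) (hgO : g ∈ O Q) :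
    RM M Q (g a) (g b) := by
  obtain ⟨ha, hb, h⟩ := h
  have ha' : Q (g a) ≠ 0 := by rw [mem_O.1 hgO]; exact ha
  have hb' : Q (g b) ≠ 0 := by rw [mem_O.1 hgO]; exact hb
  refine ⟨ha', hb', ?_⟩
  rw [← conj_refl_mul_refl hgO ha hb ha' hb']
  exact M.mul_mem (M.mul_mem hg h) (M.inv_mem hg)

/-- The class is closed under the reflections in its elements. -/
theorem RM.refl {a x v : V} (hx : RM M Q a x) (hv : RM M Q a v) (hQx : Q x ≠ 0) :
    RM M Q a (refl Q x hQx v) := by
  obtain ⟨ha, _, hx⟩ := hx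
  obtain ⟨_, hQv, hv⟩ := hv
  have hQ : Q (LieClassical.OrthCore.refl Q x hQx v) ≠ 0 := by
    rw [mem_O.1 (refl_mem_O hQx)]; exact hQv
  refine ⟨ha, hQ, ?_⟩
  have e : LieClassical.OrthCore.refl Q (LieClassical.OrthCore.refl Q x hQx v) hQ =
      LieClassical.OrthCore.refl Q x hQx * LieClassical.OrthCore.refl Q v hQv *
        LieClassical.OrthCore.refl Q x hQx := by
    rw [← refl_conj (refl_mem_O hQx) hQv hQ, refl_inv_eq]
  rw [e]
  have h1 := M.mul_mem (M.mul_mem hx (M.inv_mem hv)) hx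
  rw [mul_inv_rev, refl_inv_eq, refl_inv_eq] at h1
  have e2 : LieClassical.OrthCore.refl Q a ha * LieClassical.OrthCore.refl Q x hQx *
      (LieClassical.OrthCore.refl Q v hQv * LieClassical.OrthCore.refl Q a ha) *
      (LieClassical.OrthCore.refl Q a ha * LieClassical.OrthCore.refl Q x hQx) =
      LieClassical.OrthCore.refl Q a ha * (LieClassical.OrthCore.refl Q x hQx *
        LieClassical.OrthCore.refl Q v hQv * LieClassical.OrthCore.refl Q x hQx) := by
    have h2 := refl_mul_self ha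
    calc _ = LieClassical.OrthCore.refl Q a ha * LieClassical.OrthCore.refl Q x hQx *
        LieClassical.OrthCore.refl Q v hQv * (LieClassical.OrthCore.refl Q a ha *
        LieClassical.OrthCore.refl Q a ha) * LieClassical.OrthCore.refl Q x hQx := by
          simp only [mul_assoc]
      _ = _ := by rw [h2, mul_one]; simp only [mul_assoc]
  rwa [e2] at h1

/-- `r_x r_{x + c s}` is a Siegel transformation. -/
theorem refl_mul_refl_eq_siegel {x s : V} (hQx : Q x ≠ 0) (hQs : Q s = 0) (hsx : polar Q s x = 0)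
    (c : F) (hQ : Q (x + c • s) ≠ 0) (hp : polar Q s (((Q x)⁻¹ * c) • x) = 0) :
    refl Q x hQx * refl Q (x + c • s) hQ = siegel Q s (((Q x)⁻¹ * c) • x) hQs hp := by
  have hxs : polar Q x s = 0 := by rw [polar_comm]; exact hsx
  have e : Q (x + c • s) = Q x := by
    rw [Q_add, QuadraticMap.map_smul, hQs, polar_smul_right, hxs]
    simp
  ext z
  show refl Q x hQx (refl Q (x + c • s) hQ z) = _
  rw [refl_apply hQ, refl_apply hQx, siegel_apply, e, polar_add_left, polar_smul_left,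
    polar_sub_right, polar_smul_right, polar_add_right, polar_smul_right, hxs, polar_self',
    QuadraticMap.map_smul, polar_smul_left]
  simp only [smul_eq_mul]
  have h1 : (Q x)⁻¹ * Q x = 1 := inv_mul_cancel₀ hQx
  match_scalars
  · field_simp
  · field_simp
    ring
  · field_simp
    ring

variable [FiniteDimensional F V]

theorem RM_of_mem (c : Ctx Q D p M k) {i j : Fin t} {a b : V} (ha : a ∈ D i) (hb : b ∈ D j)
    (hQa : Q a ≠ 0) (hab : Q a = Q b) : RM M Q a b :=
  ⟨hQa, by rw [← hab]; exact hQa, c.refl_mem ha hb hQa _ hab⟩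

/-- Elements of `stabFamily D ⊓ E Q` move an element of the class inside the class. -/
theorem RM_map (c : Ctx Q D p M k) {i : Fin t} {a x : V} (ha : a ∈ D i) (h : RM M Q a x)
    {m : V ≃ₗ[F] V} (hm : m ∈ stabFamily D ⊓ E Q) : RM M Q x (m x) := by
  have hmM := c.le hm
  have hmO := c.le_O hmM
  obtain ⟨σ, hσ⟩ := hm.1
  have h1 : m a ∈ D (σ i) := by rw [← hσ i]; exact Submodule.mem_map_of_mem ha
  have h2 : RM M Q a (m a) := RM_of_mem c ha h1 h.left (mem_O.1 hmO a).symm
  exact (h.symm.trans h2).trans (h.conj hmM hmO)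

/-- **Good vectors**: `x` outside `D i` in the class, with nonsingular `i`-component orthogonal to a singular
vector of `D i`. -/
theorem E_le_of_good [Finite F] (c : Ctx Q D p M k) {i j : Fin t} {a x s : V} (ha : a ∈ D j)
    (h : RM M Q a x) (hxi : x ∉ D i) (hQxi : Q (p i x) ≠ 0) (hs : s ∈ D i) (hs0 : s ≠ 0)
    (hQs : Q s = 0) (hsx : polar Q s x = 0) : E Q ≤ M := by
  have hk := c.three
  have hQx := h.right
  refine E_le_of_mem_T c hs hs0 hQs (x := x) ?_ hxi
  -- a vector of `D i` orthogonal to `s` but not to `x`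
  obtain ⟨y, hy, hsy, hyx⟩ : ∃ y ∈ D i, polar Q s y = 0 ∧ polar Q y x ≠ 0 := by
    by_contra hcon
    push Not at hcon
    obtain ⟨s', hs', hQs', hss'⟩ := exists_partner (c.nd i) hs hs0 hQs
    have h1 : p i x - polar Q s' x • s = 0 := by
      refine c.nd i _ ((D i).sub_mem (c.dec.mem i x) ((D i).smul_mem _ hs)) fun y hy => ?_
      have h2 := hcon (y - polar Q s y • s') ((D i).sub_mem hy ((D i).smul_mem _ hs')) (by
        rw [polar_sub_right, polar_smul_right, hss']; simp)
      rw [polar_sub_left, polar_smul_left, ← c.dec.polar_left i x hy, polar_comm Q x y,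
        smul_eq_mul]
      rw [polar_sub_left, polar_smul_left, smul_eq_mul] at h2
      linear_combination h2
    rw [sub_eq_zero] at h1
    rw [h1, QuadraticMap.map_smul, hQs, smul_zero] at hQxi
    exact hQxi rfl
  -- all `x + b s` are in the class
  have hxs : polar Q x s = 0 := by rw [polar_comm]; exact hsx
  have hall : ∀ b : F, RM M Q x (x + b • s) := by
    intro b
    have h1 : polar Q s ((-(b * (polar Q y x)⁻¹)) • y) = 0 := by
      rw [polar_smul_right, hsy, smul_zero]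
    have h2 := siegel_mem_stabFamily c.dec (k := k) (by omega) c.fin hs
      ((D i).smul_mem (-(b * (polar Q y x)⁻¹)) hy) hQs h1
    have h3 := RM_map c ha h h2
    have e : siegel Q s ((-(b * (polar Q y x)⁻¹)) • y) hQs h1 x = x + b • s := by
      rw [siegel_apply, hsx, polar_smul_left, smul_eq_mul]
      have : -(b * (polar Q y x)⁻¹) * polar Q y x = -b := by
        field_simp
      rw [this]
      module
    rwa [e] at h3
  intro b
  have hp : polar Q s (((Q x)⁻¹ * (Q x * b)) • x) = 0 := by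
    rw [polar_smul_right, hsx, smul_zero]
  have e : (Q x)⁻¹ * (Q x * b) = b := by field_simp
  obtain ⟨_, hQ, h1⟩ := hall (Q x * b)
  rw [refl_mul_refl_eq_siegel hQx hQs hsx _ hQ hp] at h1
  have h2 : SM M Q s (((Q x)⁻¹ * (Q x * b)) • x) := ⟨hQs, hp, h1⟩
  rwa [e] at h2

/-- Failure of rigidity. -/
theorem exists_of_not_rigid (hR : ¬ Rigid Q D M) :
    ∃ i, ∃ a ∈ D i, ∃ x, RM M Q a x ∧ Q x = Q a ∧ ∀ j, x ∉ D j := by
  by_contra hcon
  push Not at hcon
  apply hR
  intro i a ha hQa b hQb hab hm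
  exact hcon i a ha b ⟨hQa, hQb, hm⟩ hab

theorem E_le_of_four [Finite F] (c : Ctx Q D p M k) (hk : 4 ≤ k) (hR : ¬ Rigid Q D M) :
    E Q ≤ M := by
  obtain ⟨j, a, ha, x, hax, -, hx⟩ := exists_of_not_rigid hR
  obtain ⟨i, hi⟩ : ∃ i, Q (p i x) ≠ 0 := by
    by_contra hcon
    push Not at hcon
    apply hax.right
    rw [Q_eq_sum c.dec]
    exact Finset.sum_eq_zero fun i _ => hcon i
  obtain ⟨s, hs, hs0, hQs, hxs⟩ := exists_sing_mem_perp (Q := Q) ![x] (D i) (by
    rw [c.fin]; omega)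
  have hxs' : polar Q x s = 0 := hxs 0
  exact E_le_of_good c ha hax (hx i) hi hs hs0 hQs (by rw [polar_comm]; exact hxs')

end Cfsg.Agent.H885.C2NonRigid
end

-- part: H885/C2Three
section
/-!
Non-rigid overgroups of the stabiliser of an orthogonal decomposition into isometric nondegenerate
subspaces of dimension three, `q ≥ 5` odd: they contain `E Q`.
-/

set_option autoImplicit false
set_option linter.unusedSectionVars false

namespace Cfsg.Agent.H885.C2Three

open QuadraticMap Cfsg.Agent.LieClassical.OrthCore Cfsg.Agent.LieClassical.OrthTrans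
  Cfsg.Agent.LieClassical.OrthFinite Cfsg.Agent.LieClassical.OrthSimple Cfsg.Agent.H883.Bridge
  Cfsg.Agent.H885.RootT Cfsg.Agent.H885.Irr Cfsg.Agent.H885.C2Scalar Cfsg.Agent.H885.C2Conn
  Cfsg.Agent.H886.Decomp Cfsg.Agent.H885.C2Rigid Cfsg.Agent.H885.C2Trans
  Cfsg.Agent.H885.C2NonRigid

variable {F V : Type*} [Field F] [AddCommGroup V] [Module F V] {Q : QuadraticForm F V} {t : ℕ}
  {D : Fin t → Submodule F V} {p : Fin t → V →ₗ[F] V} {M : Subgroup (V ≃ₗ[F] V)} {k : ℕ}

/-- Two vectors of the same norm of `W`: if one is orthogonal to a singular vector, so is the other one. -/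
theorem exists_sing_perp {W : Submodule F V} {y z e : V} (hy : y ∈ W) (hz : z ∈ W) (he : e ∈ W)
    (he0 : e ≠ 0) (hQe : Q e = 0) (hez : polar Q e z = 0) (hyz : Q y = Q z) :
    ∃ s ∈ W, s ≠ 0 ∧ Q s = 0 ∧ polar Q s y = 0 := by
  by_cases hd : Q (y - z) = 0
  · by_cases hyz0 : y - z = 0
    · exact ⟨e, he, he0, hQe, by rw [sub_eq_zero.1 hyz0]; exact hez⟩
    · refine ⟨y - z, W.sub_mem hy hz, hyz0, hd, ?_⟩
      rw [sub_eq_add_neg, Q_add, QuadraticMap.map_neg, polar_neg_right, ← hyz] at hd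
      rw [polar_sub_left, polar_self', polar_comm Q z y]
      linear_combination hd
  · refine ⟨refl Q (y - z) hd e, ?_, ?_, ?_, ?_⟩
    · rw [refl_apply]
      exact W.sub_mem he (W.smul_mem _ (W.sub_mem hy hz))
    · intro h
      exact he0 ((refl Q (y - z) hd).map_eq_zero_iff.1 h)
    · rw [mem_O.1 (refl_mem_O hd)]; exact hQe
    · have h1 : refl Q (y - z) hd z = y := by
        have h2 : Q (y - z) = - polar Q (y - z) z := by
          rw [polar_sub_left, polar_self', sub_eq_add_neg, Q_add, QuadraticMap.map_neg,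
            polar_neg_right, hyz]
          ring
        have h3 : (Q (y - z))⁻¹ * polar Q (y - z) z = -1 := by
          have h4 : polar Q (y - z) z = - Q (y - z) := by rw [h2]; ring
          rw [h4]
          field_simp
        rw [refl_apply, h3]
        module
      have h2 : polar Q (refl Q (y - z) hd e) (refl Q (y - z) hd z) = 0 := by
        rw [polar_map (refl_mem_O hd)]; exact hez
      rwa [h1] at h2

variable [FiniteDimensional F V]

/-- The class of norms of the vectors orthogonal to singular vectors of their member. -/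
theorem exists_omega [Finite F] (c : Ctx Q D p M k) (i₀ : Fin t) :
    ∃ ω : F, ω ≠ 0 ∧ ∀ i, ∀ y ∈ D i, ∀ ρ : F, Q y = ω * ρ ^ 2 →
      ∃ s ∈ D i, s ≠ 0 ∧ Q s = 0 ∧ polar Q s y = 0 := by
  have hk := c.three
  obtain ⟨e, f, he, hf, hef⟩ := exists_hyp_mem c i₀
  have hQe := hef.left
  have hQf := hef.right
  have hef1 := hef.pair
  have h1 : NdOn Q (bp Q (bp Q (D i₀) e) f) := by
    refine ndOn_pair (c.nd i₀) he hf ?_
    rw [hQe, hQf, hef1]
    simp
  obtain ⟨x, hx, hx0, hxp⟩ := exists_mem_perp (Q := Q) ![e, f] (D i₀) (by rw [c.fin]; omega)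
  obtain ⟨w, ⟨⟨hw, hew⟩, hfw⟩, hQw⟩ := exists_nonsing h1 (x := x) ⟨⟨hx, hxp 0⟩, hxp 1⟩ hx0
  have hew' : polar Q e w = 0 := hew
  have he0 : e ≠ 0 := by
    rintro rfl
    rw [polar_zero_left] at hef1
    exact zero_ne_one hef1
  refine ⟨Q w, hQw, fun i y hy ρ hQy => ?_⟩
  obtain ⟨φ, hφ⟩ := c.iso i₀ i
  have hφp : polar Q (φ ⟨e, he⟩ : V) (φ ⟨w, hw⟩ : V) = 0 := by
    have h3 := hφ (⟨e, he⟩ + ⟨w, hw⟩)
    rw [map_add] at h3
    have h4 : Q ((φ ⟨e, he⟩ : V) + (φ ⟨w, hw⟩ : V)) = Q (e + w) := h3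
    rw [polar, h4, hφ ⟨e, he⟩, hφ ⟨w, hw⟩]
    exact hew'
  refine exists_sing_perp (z := ρ • (φ ⟨w, hw⟩ : V)) (e := (φ ⟨e, he⟩ : V)) hy
    ((D i).smul_mem _ (φ ⟨w, hw⟩).2) (φ ⟨e, he⟩).2 ?_ ?_ ?_ ?_
  · intro h0
    have h3 : φ ⟨e, he⟩ = 0 := Subtype.ext h0
    have h4 : (⟨e, he⟩ : D i₀) = 0 := φ.map_eq_zero_iff.1 h3
    exact he0 (congrArg Subtype.val h4)
  · rw [hφ ⟨e, he⟩]; exact hQe
  · rw [polar_smul_right, hφp, smul_zero]
  · rw [hQy, QuadraticMap.map_smul, hφ ⟨w, hw⟩, smul_eq_mul]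
    ring

/-- **The step.** -/
theorem exists_step [Finite F] (h2 : (2 : F) ≠ 0) (c : Ctx Q D p M k) {j : Fin t} {a x : V}
    (ha : a ∈ D j) (h : RM M Q a x) (hax : Q x = Q a) {i : Fin t} (hxi : p i x ≠ 0) {g : F}
    (hg : g ≠ 0) :
    ∃ x', RM M Q a x' ∧ Q x' = Q a ∧ (∀ l, l ≠ i → p l x' = -(g • p l x)) ∧
      Q (p i x') = Q a - g ^ 2 * (Q a - Q (p i x)) := by
  have hk := c.three
  have hQx := h.right
  have hQa := h.left
  have hμ : Q a ≠ 0 := hQa
  obtain ⟨v, hv, hQv, hvx⟩ : ∃ v ∈ D i, Q v = Q a ∧ polar Q (p i x) v = g * Q a := by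
    by_cases hn : Q (p i x) = 0
    · obtain ⟨e', he', hQe', hxe'⟩ := exists_partner (c.nd i) (c.dec.mem i x) hxi hn
      refine ⟨g⁻¹ • p i x + (g * Q a) • e', (D i).add_mem ((D i).smul_mem _ (c.dec.mem i x))
        ((D i).smul_mem _ he'), ?_, ?_⟩
      · rw [Q_add, QuadraticMap.map_smul, QuadraticMap.map_smul, polar_smul_left, polar_smul_right,
          hn, hQe', hxe']
        simp only [smul_eq_mul]
        field_simp
        ring
      · rw [polar_add_right, polar_smul_right, polar_smul_right, polar_self_of_sing hn, hxe']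
        simp
    · obtain ⟨w, hw, hxw, hQw⟩ := exists_norm_eq h2 (c.nd i) (c.dec.mem i x) hn
        (by rw [c.fin]; exact hk) (Q a - (g * Q a * (2 * Q (p i x))⁻¹) ^ 2 * Q (p i x))
      refine ⟨(g * Q a * (2 * Q (p i x))⁻¹) • p i x + w,
        (D i).add_mem ((D i).smul_mem _ (c.dec.mem i x)) hw, ?_, ?_⟩
      · rw [Q_add, QuadraticMap.map_smul, polar_smul_left, hxw, hQw]
        simp only [smul_eq_mul]
        ring
      · rw [polar_add_right, polar_smul_right, polar_self', hxw, smul_eq_mul]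
        have : 2 * Q (p i x) ≠ 0 := mul_ne_zero h2 hn
        field_simp
        ring
  have hxv : polar Q x v = g * Q a := by rw [c.dec.polar_left i x hv]; exact hvx
  have hQv0 : Q v ≠ 0 := by rw [hQv]; exact hμ
  have e : refl Q x hQx v = v - g • x := by
    rw [refl_apply, hxv, hax]
    congr 2
    field_simp
  have h3 := h.refl (RM_of_mem c ha hv hQa hQv.symm) hQx
  rw [e] at h3
  refine ⟨v - g • x, h3, ?_, ?_, ?_⟩
  · rw [← e, mem_O.1 (refl_mem_O hQx), hQv]
  · intro l hl
    rw [map_sub, map_smul, c.dec.other l i hl v hv, zero_sub]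
  · rw [map_sub, map_smul, c.dec.self i v hv, sub_eq_add_neg, Q_add, QuadraticMap.map_neg,
      QuadraticMap.map_smul, polar_neg_right, polar_smul_right, polar_comm Q v, hvx, hQv]
    simp only [smul_eq_mul]
    ring

theorem not_mem_of_two (c : Ctx Q D p M k) {x : V} {i j : Fin t} (hij : i ≠ j) (hi : p i x ≠ 0)
    (hj : p j x ≠ 0) (l : Fin t) : x ∉ D l := by
  intro hx
  by_cases hil : i = l
  · subst hil
    exact hj (c.dec.other j i hij.symm x hx)
  · exact hi (c.dec.other i l hil x hx)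

theorem sq_eq_of_card_five (hF : Nat.card F = 5) : (5 : F) = 0 ∧
    ∀ m : F, m ≠ 0 → m ^ 2 = 1 ∨ m ^ 2 = -1 := by
  have : Finite F := Nat.finite_of_card_ne_zero (by omega)
  have : Fintype F := Fintype.ofFinite F
  rw [Nat.card_eq_fintype_card] at hF
  refine ⟨?_, fun m hm => ?_⟩
  · have := FiniteField.cast_card_eq_zero F
    rw [hF] at this
    exact_mod_cast this
  · have h1 := FiniteField.pow_card_sub_one_eq_one m hm
    rw [hF] at h1
    have h2 : (m ^ 2 - 1) * (m ^ 2 + 1) = 0 := by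
      have : m ^ (5 - 1) = m ^ 4 := rfl
      rw [this] at h1
      linear_combination h1
    rcases mul_eq_zero.1 h2 with h | h
    · exact Or.inl (by linear_combination h)
    · exact Or.inr (by linear_combination h)

/-- **Dimension three, non-rigid.** -/
theorem E_le_of_three [Finite F] (h2 : (2 : F) ≠ 0) (hF : 5 ≤ Nat.card F) (c : Ctx Q D p M k)
    (hR : ¬ Rigid Q D M) : E Q ≤ M := by
  classical
  by_contra hcon
  obtain ⟨j₀, a, ha, x₀, hax₀, hQx₀, hx₀⟩ := exists_of_not_rigid hR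
  obtain ⟨ω, hω, hωs⟩ := exists_omega c j₀
  have hμ : Q a ≠ 0 := hax₀.left
  -- no good vectors
  have hgood : ∀ x, RM M Q a x → ∀ i, x ∉ D i → ∀ ρ : F, ρ ≠ 0 → Q (p i x) ≠ ω * ρ ^ 2 := by
    intro x hx i hxi ρ hρ hQ
    obtain ⟨s, hs, hs0, hQs, hsx⟩ := hωs i _ (c.dec.mem i x) ρ hQ
    refine hcon (E_le_of_good c ha hx hxi ?_ hs hs0 hQs ?_)
    · rw [hQ]
      exact mul_ne_zero hω (pow_ne_zero 2 hρ)
    · rw [c.dec.polar_right i x hs]
      exact hsx
  -- outside `D i` after a step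
  have hstep_out : ∀ x x' : V, ∀ i : Fin t, ∀ g : F, g ≠ 0 → x ∉ D i →
      (∀ l, l ≠ i → p l x' = -(g • p l x)) → x' ∉ D i := by
    intro x x' i g hg hxi hx' hmem
    obtain ⟨j, hji, hxj⟩ := c.dec.exists_ne hxi
    have h1 := c.dec.other j i hji x' hmem
    rw [hx' j hji, neg_eq_zero] at h1
    rcases smul_eq_zero.1 h1 with h | h
    · exact hg h
    · exact hxj h
  have hcard4 : 4 ≤ Nat.card F := by omega
  by_cases hπ : ∃ m : F, ω * m ^ 2 = Q a
  · -- `μ` in the class `π`
    have hcard : Nat.card F < 7 → Nat.card F = 5 := by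
      intro h7
      have : Fintype F := Fintype.ofFinite F
      have hodd : Fintype.card F % 2 = 1 := by
        refine FiniteField.odd_card_of_char_ne_two fun h => h2 ?_
        have : CharP F 2 := ringChar.of_eq h
        exact CharTwo.two_eq_zero
      rw [← Nat.card_eq_fintype_card] at hodd
      omega
    obtain ⟨m₀, hm₀⟩ := hπ
    have hm₀0 : m₀ ≠ 0 := by
      rintro rfl
      apply hμ
      rw [← hm₀]; ring
    have claim : ∀ x, RM M Q a x → Q x = Q a → (∀ j, x ∉ D j) → ∀ i, p i x ≠ 0 →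
        Nat.card F = 5 ∧ (Q (p i x) = 0 ∨ Q (p i x) = 2 * Q a) := by
      intro x hx hQx hxD i hxi
      have hn : Q (p i x) ≠ Q a := by
        rw [← hm₀]
        exact hgood x hx i (hxD i) m₀ hm₀0
      have hκ : Q a - Q (p i x) ≠ 0 := fun h => hn (by linear_combination -h)
      have hno : ¬ ∃ g ρ : F, g ≠ 0 ∧ ρ ≠ 0 ∧ (Q a - Q (p i x)) * g ^ 2 + ω * ρ ^ 2 = Q a := by
        rintro ⟨g, ρ, hg, hρ, he⟩
        obtain ⟨x', hx', hQx', hl, hi⟩ := exists_step h2 c ha hx hQx hxi hg
        refine hgood x' hx' i (hstep_out x x' i g hg (hxD i) hl) ρ hρ ?_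
        rw [hi]
        linear_combination -he
      have h7 : ¬ 7 ≤ Nat.card F := fun h7 =>
        hno (exists_conic h2 hκ hω hμ hcard4 (Or.inl h7))
      have h5 := hcard (by omega)
      refine ⟨h5, ?_⟩
      obtain ⟨-, hsq⟩ := sq_eq_of_card_five h5
      have h6 : ∃ m : F, (Q a - Q (p i x)) * m ^ 2 = Q a := by
        by_contra h6
        push Not at h6
        exact hno (exists_conic h2 hκ hω hμ hcard4 (Or.inr (Or.inl h6)))
      obtain ⟨m, hm⟩ := h6
      have hm0 : m ≠ 0 := by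
        rintro rfl
        apply hμ
        rw [← hm]; ring
      rcases hsq m hm0 with h | h
      · left
        rw [h] at hm
        linear_combination -hm
      · right
        rw [h] at hm
        linear_combination hm
    -- two components of norm `2 μ`
    obtain ⟨i, hi⟩ : ∃ i, Q (p i x₀) ≠ 0 := by
      by_contra hcon'
      push Not at hcon'
      apply hax₀.right
      rw [Q_eq_sum c.dec]
      exact Finset.sum_eq_zero fun i _ => hcon' i
    have hpi : p i x₀ ≠ 0 := ne_zero_of_Q hi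
    obtain ⟨hF5, hi'⟩ := claim x₀ hax₀ hQx₀ hx₀ i hpi
    obtain ⟨h50, hsq⟩ := sq_eq_of_card_five hF5
    have hi2 : Q (p i x₀) = 2 * Q a := hi'.resolve_left hi
    obtain ⟨j, hji, hj⟩ : ∃ j, j ≠ i ∧ Q (p j x₀) ≠ 0 := by
      by_contra hcon'
      push Not at hcon'
      have h1 := Q_eq_sum c.dec x₀
      rw [Finset.sum_eq_single i (fun l _ hl => hcon' l hl)
        (fun h => absurd (Finset.mem_univ i) h), hQx₀, hi2] at h1
      apply hμ
      linear_combination -h1
    have hpj : p j x₀ ≠ 0 := ne_zero_of_Q hj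
    have hj2 : Q (p j x₀) = 2 * Q a := (claim x₀ hax₀ hQx₀ hx₀ j hpj).2.resolve_left hj
    obtain ⟨x', hx', hQx', hl, hi''⟩ := exists_step h2 c ha hax₀ hQx₀ hpi h2
    have hQj : Q (p j x') = 3 * Q a := by
      rw [hl j hji, QuadraticMap.map_neg, QuadraticMap.map_smul, hj2, smul_eq_mul]
      linear_combination Q a * h50
    have h3 : (3 : F) ≠ 0 := by
      intro h
      apply h2
      linear_combination h50 - h
    have hpj' : p j x' ≠ 0 := ne_zero_of_Q (by rw [hQj]; exact mul_ne_zero h3 hμ)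
    have hx'D : ∀ l, x' ∉ D l := by
      intro l hmem
      by_cases hlj : l = j
      · subst hlj
        rw [c.dec.self l x' hmem, hQx'] at hQj
        have h4 : 2 * Q a = 0 := by linear_combination -hQj
        exact mul_ne_zero h2 hμ h4
      · exact hpj' (c.dec.other j l (Ne.symm hlj) x' hmem)
    rcases (claim x' hx' hQx' hx'D j hpj').2 with h | h
    · rw [hQj] at h
      exact mul_ne_zero h3 hμ h
    · rw [hQj] at h
      apply hμ
      linear_combination h
  · -- `μ` outside the class `π`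
    push Not at hπ
    have claim : ∀ x, RM M Q a x → Q x = Q a → (∀ j, x ∉ D j) → ∀ i, p i x ≠ 0 →
        Q (p i x) = Q a := by
      intro x hx hQx hxD i hxi
      by_contra hn
      have hκ : Q a - Q (p i x) ≠ 0 := fun h => hn (by linear_combination -h)
      obtain ⟨g, ρ, hg, hρ, he⟩ := exists_conic h2 hκ hω hμ hcard4 (Or.inr (Or.inr hπ))
      obtain ⟨x', hx', hQx', hl, hi⟩ := exists_step h2 c ha hx hQx hxi hg
      refine hgood x' hx' i (hstep_out x x' i g hg (hxD i) hl) ρ hρ ?_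
      rw [hi]
      linear_combination -he
    have hx₀0 : x₀ ≠ 0 := ne_zero_of_Q hax₀.right
    obtain ⟨i, hi⟩ : ∃ i, p i x₀ ≠ 0 := by
      by_contra hcon'
      push Not at hcon'
      exact hx₀0 (c.dec.eq_zero hcon')
    obtain ⟨j, hji, hj⟩ := c.dec.exists_ne (hx₀ i)
    obtain ⟨g, hg⟩ := exists_avoid ({0, 1, -1} : Finset F)
      (lt_of_le_of_lt Finset.card_le_three (by omega))
    simp only [Finset.mem_insert, Finset.mem_singleton, not_or] at hg
    obtain ⟨hg0, hg1, hg2⟩ := hg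
    obtain ⟨x', hx', hQx', hl, hi'⟩ := exists_step h2 c ha hax₀ hQx₀ hi hg0
    rw [claim x₀ hax₀ hQx₀ hx₀ i hi, sub_self, mul_zero, sub_zero] at hi'
    have hpi' : p i x' ≠ 0 := ne_zero_of_Q (by rw [hi']; exact hμ)
    have hpj' : p j x' ≠ 0 := by
      rw [hl j hji]
      exact neg_ne_zero.2 (smul_ne_zero hg0 hj)
    have h1 := claim x' hx' hQx' (not_mem_of_two c hji.symm hpi' hpj') j hpj'
    rw [hl j hji, QuadraticMap.map_neg, QuadraticMap.map_smul,
      claim x₀ hax₀ hQx₀ hx₀ j hj, smul_eq_mul] at h1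
    have h3 : (g - 1) * (g + 1) = 0 := by
      have h4 : ((g - 1) * (g + 1)) * Q a = 0 := by linear_combination h1
      exact (mul_eq_zero.1 h4).resolve_right hμ
    rcases mul_eq_zero.1 h3 with h | h
    · exact hg1 (by linear_combination h)
    · exact hg2 (by linear_combination h)

end Cfsg.Agent.H885.C2Three
end

-- part: H885/C2Main
section
/-!
**The stabiliser in `Ω` of an orthogonal decomposition into isometric nondegenerate subspaces of dimension
`k ≥ 3` is maximal**, for every nondegenerate quadratic form over a finite field, except `(k, q) = (3, 3)` and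
`(k, q) = (4, 2)` with members of plus type (and the untreated case `t = 2`, `k ≤ 4`).
-/

set_option autoImplicit false
set_option linter.unusedSectionVars false

namespace Cfsg.Agent.H885.C2Main

open QuadraticMap Cfsg.Agent.LieClassical.OrthCore Cfsg.Agent.LieClassical.OrthTrans
  Cfsg.Agent.LieClassical.OrthFinite Cfsg.Agent.LieClassical.OrthSimple Cfsg.Agent.H883.Bridge
  Cfsg.Agent.H885.RootT Cfsg.Agent.H885.Irr Cfsg.Agent.H885.C2Scalar Cfsg.Agent.H885.C2Conn
  Cfsg.Agent.H886.Decomp Cfsg.Agent.H885.C2Rigid Cfsg.Agent.H885.C2Trans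
  Cfsg.Agent.H885.C2NonRigid Cfsg.Agent.H885.C2Three

section Free

variable {F V : Type*} [Field F] [AddCommGroup V] [Module F V] {Q : QuadraticForm F V} {t : ℕ}
  {D : Fin t → Submodule F V} {p : Fin t → V →ₗ[F] V} {k : ℕ}

/-- `E Q` does not preserve an orthogonal decomposition into at least two isotropic members. -/
theorem not_E_le [FiniteDimensional F V] (h : Dec Q D p) (ht : 2 ≤ t)
    (hhyp : ∀ i, ∃ x y, x ∈ D i ∧ y ∈ D i ∧ Hyp Q x y) : ¬ E Q ≤ stabFamily D := by
  intro hE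
  let a : Fin t := ⟨0, by omega⟩
  let b : Fin t := ⟨1, by omega⟩
  have hab : a ≠ b := by simp [a, b, Fin.ext_iff]
  obtain ⟨s, y, hs, hy, hsy⟩ := hhyp a
  obtain ⟨w, w', hw, hw', hww'⟩ := hhyp b
  have hw0 : w ≠ 0 := by
    rintro rfl
    have := hww'.pair
    rw [polar_zero_left] at this
    exact zero_ne_one this
  have hy0 : y ≠ 0 := by
    rintro rfl
    have := hsy.pair
    rw [polar_zero_right] at this
    exact zero_ne_one this
  have hsw : polar Q s w = 0 := h.orth a b hab s hs w hw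
  have hwy : polar Q w y = 0 := h.orth b a hab.symm w hw y hy
  obtain ⟨σ, hσ⟩ := hE (siegel_mem_E hsy.left hsw)
  have h1 : siegel Q s w hsy.left hsw y ∈ D (σ a) := by
    rw [← hσ a]
    exact ⟨y, hy, rfl⟩
  have h2 : siegel Q s w hsy.left hsw y = y + w := by
    rw [siegel_apply, hsy.pair, hwy, hww'.left]
    simp
  rw [h2] at h1
  by_cases hc : b = σ a
  · have := h.other a (σ a) (by rw [← hc]; exact hab) _ h1
    rw [map_add, h.self a y hy, h.other a b hab w hw, add_zero] at this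
    exact hy0 this
  · have := h.other b (σ a) hc _ h1
    rw [map_add, h.other b a hab.symm y hy, h.self b w hw, zero_add] at this
    exact hw0 this

/-- **Overgroups.** -/
theorem le_or_le [Finite F] [FiniteDimensional F V] {M : Subgroup (V ≃ₗ[F] V)}
    (c : Ctx Q D p M k) (htk : 3 ≤ t ∨ 5 ≤ k) (h3 : k = 3 → (2 : F) ≠ 0 ∧ 5 ≤ Nat.card F) :
    M ≤ stabFamily D ∨ E Q ≤ M := by
  by_cases hR : Rigid Q D M
  · left
    rcases htk with ht | hk
    · exact c.rigid_of_three hR ht
    · exact c.rigid_of_five hR hk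
  · right
    by_cases hk : k = 3
    · exact E_le_of_three (h3 hk).1 (h3 hk).2 c hR
    · have := c.three
      exact E_le_of_four c (by omega) hR

/-- **Maximality, coordinate free.** -/
theorem maximal_free [Finite F] [FiniteDimensional F V] (hG : Good Q)
    (horth : ∀ i j, i ≠ j → ∀ x ∈ D i, ∀ y ∈ D j, polar Q x y = 0) (hspan : iSup D = ⊤)
    (hk : 3 ≤ k) (hrank : ∀ i, Module.finrank F (D i) = k)
    (hiso : ∀ i j, ∃ e : D i ≃ₗ[F] D j, ∀ z : D i, Q (e z : V) = Q (z : V)) (ht : 2 ≤ t)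
    (htk : 3 ≤ t ∨ 5 ≤ k) (h3 : k = 3 → (2 : F) ≠ 0 ∧ Nat.card F ≠ 3)
    (h4 : k = 4 → Nat.card F = 2 → ∀ i, ¬ ∃ U ≤ D i, Module.finrank F U = 2 ∧ ∀ u ∈ U, Q u = 0) :
    Cfsg.Geo.IsMaximalIn (E Q) (stabFamily D ⊓ E Q) := by
  obtain ⟨p, h⟩ := exists_dec hG.nondeg horth hspan
  have hnd : ∀ i, NdOn Q (D i) := fun i => h.nondegOn hG.nondeg i
  have hconn : ∀ i, Conn Q (D i) := fun i => by
    refine conn (hnd i) (by rw [hrank]; exact hk) ?_ ?_ ?_
    · rw [hrank]
      rintro ⟨h5, h6⟩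
      exact (h3 h5).2 h6
    · rw [hrank]
      exact fun h5 => (h3 h5).1
    · rw [hrank]
      rintro ⟨h5, h6, h7⟩
      exact h4 h5 h6 i h7
  have hctx : ∀ M : Subgroup (V ≃ₗ[F] V), stabFamily D ⊓ E Q ≤ M → M ≤ E Q → Ctx Q D p M k :=
    fun M h1 h2 => ⟨h, hG, hk, hrank, hiso, hconn, h1, h2⟩
  refine ⟨lt_of_le_of_ne inf_le_right fun heq => ?_, fun M hM1 hM2 => ?_⟩
  · refine not_E_le h ht (fun i => exists_hyp_mem (hctx (E Q) inf_le_right le_rfl) i) ?_
    rw [← heq]
    exact inf_le_left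
  · have h5 : k = 3 → (2 : F) ≠ 0 ∧ 5 ≤ Nat.card F := by
      intro hk3
      obtain ⟨h6, h7⟩ := h3 hk3
      refine ⟨h6, ?_⟩
      have : Fintype F := Fintype.ofFinite F
      have hodd : Fintype.card F % 2 = 1 := by
        refine FiniteField.odd_card_of_char_ne_two fun h8 => h6 ?_
        have : CharP F 2 := ringChar.of_eq h8
        exact CharTwo.two_eq_zero
      have h8 := Fintype.one_lt_card (α := F)
      rw [Nat.card_eq_fintype_card] at h7 ⊢
      omega
    rcases le_or_le (hctx M hM1 hM2) htk h5 with h6 | h6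
    · left
      exact le_antisymm (le_inf h6 hM2) hM1
    · right
      exact le_antisymm hM2 h6

end Free

section Geo

variable {ι : Type} [Fintype ι] [DecidableEq ι] {F : Type*} [Field F]

omit [Fintype ι] [DecidableEq ι] in
/-- The type is an isometry invariant. -/
theorem plus_of_isometric {Q : (ι → F) → F} {W W' : Submodule F (ι → F)}
    (h : Cfsg.Geo.AreIsometricFor Q W W') (hW : Cfsg.Geo.IsPlusTypeOn Q W) :
    Cfsg.Geo.IsPlusTypeOn Q W' := by
  obtain ⟨e, he⟩ := h
  obtain ⟨U, hU, hUs, hUd⟩ := hW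
  let f : U →ₗ[F] (ι → F) := W'.subtype ∘ₗ (e : W →ₗ[F] W') ∘ₗ Submodule.inclusion hU
  have hf : Function.Injective f := by
    intro x y hxy
    have h1 : e (Submodule.inclusion hU x) = e (Submodule.inclusion hU y) := Subtype.ext hxy
    exact Submodule.inclusion_injective hU (e.injective h1)
  refine ⟨LinearMap.range f, ?_, ?_, ?_⟩
  · rintro _ ⟨x, rfl⟩
    exact (e (Submodule.inclusion hU x)).2
  · rintro _ ⟨x, rfl⟩
    show Q (e (Submodule.inclusion hU x) : ι → F) = 0
    rw [he]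
    exact hUs x x.2
  · rw [LinearMap.finrank_range_of_inj hf, hUd, e.finrank_eq]

/-- **Orthogonal decompositions with members of dimension `k ≥ 3`: the stabiliser in `Ω` is maximal.** -/
theorem decomposition_maximal [Fintype F] {Q : (ι → F) → F}
    (hQ : Cfsg.Geo.IsNondegenerateQuadraticForm Q) {k : ℕ} (hk : 3 ≤ k)
    (hn : 5 ≤ Fintype.card ι) {t : ℕ}
    {D : Fin t → Submodule F (ι → F)} (hD : Cfsg.Geo.IsOrthogonalMDecomposition Q k D)
    (htk : 3 ≤ t ∨ 5 ≤ k) (h3 : k = 3 → Odd (Fintype.card F) ∧ Fintype.card F ≠ 3)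
    (h4 : ¬ (k = 4 ∧ Fintype.card F = 2 ∧ ∀ i, Cfsg.Geo.IsPlusTypeOn Q (D i))) :
    Cfsg.Geo.IsMaximalIn (Cfsg.Geo.omegaGL Q)
      (Cfsg.Geo.decompositionStabilizer D ⊓ Cfsg.Geo.omegaGL Q) := by
  refine decompositionStabilizer_maximal hQ hn D ?_
  rintro Q' rfl hG
  refine maximal_free hG
    (fun i j hij x hx y hy => hD.decomp.orthogonal i j hij x hx y hy)
    hD.decomp.decomp.iSup_eq_top hk hD.decomp.decomp.finrank_eq
    (fun i j => hD.isometric i j) hD.decomp.decomp.two_le htk ?_ ?_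
  · intro hk3
    obtain ⟨h5, h6⟩ := h3 hk3
    refine ⟨fun h2 => ?_, by rw [Nat.card_eq_fintype_card]; exact h6⟩
    have : CharP F 2 := CharTwo.of_one_ne_zero_of_two_eq_zero one_ne_zero h2
    have h7 := FiniteField.even_card_of_char_two (ringChar.eq F 2)
    rw [Nat.odd_iff] at h5
    omega
  · rintro hk4 hF2 i ⟨U, hU, hUd, hUs⟩
    rw [Nat.card_eq_fintype_card] at hF2
    refine h4 ⟨hk4, hF2, fun j => ?_⟩
    refine plus_of_isometric (hD.isometric i j) ⟨U, hU, hUs, ?_⟩
    rw [hUd, hD.decomp.decomp.finrank_eq, hk4]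

end Geo

end Cfsg.Agent.H885.C2Main
end
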